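import Groth.Agent.H11Rig.Basic
import Mathlib.RingTheory.Finiteness.Ideal
import Mathlib.RingTheory.Localization.Away.Basic
import Mathlib.RingTheory.Spectrum.Prime.Topology

/-!
# Algebraic approximations of clopen subsets of `D(IB)`
-/

set_option autoImplicit false
set_option linter.style.haveILetI false
universe u

namespace Groth.Agent.H11Rig

variable {A B : Type u} [CommRing A] [CommRing B]

/-- A clopen of `D(IB)` restricted to `D(f)` is cut out by an element with denominator a power of `f`. -/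
theorem exists_num {J : Ideal B} {S : Set (PrimeSpectrum B)} (hS : IsOpen S)
    (hS' : IsOpen {P | ¬ J ≤ P.asIdeal ∧ P ∉ S}) {f : B} (hf : f ∈ J) :
    ∃ n : ℕ, ∀ N, n ≤ N → ∃ b ∈ J, ∀ P : PrimeSpectrum B, ¬ J ≤ P.asIdeal →
      (P ∈ S → b - f ^ N ∈ P.asIdeal) ∧ (P ∉ S → b ∈ P.asIdeal) := by
  let c : PrimeSpectrum (Localization.Away f) → PrimeSpectrum B := PrimeSpectrum.comap (algebraMap B (Localization.Away f))
  have hc : Continuous c := PrimeSpectrum.continuous_comap _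
  have hcf : ∀ x, f ∉ (c x).asIdeal := fun x hx =>
    x.isPrime.ne_top (Ideal.eq_top_of_isUnit_mem _ hx (IsLocalization.Away.algebraMap_isUnit f))
  have hcJ : ∀ x, ¬ J ≤ (c x).asIdeal := fun x h => hcf x (h hf)
  have hclo : IsClopen (c ⁻¹' S) := by
    refine ⟨?_, hS.preimage hc⟩
    have : (c ⁻¹' S) = (c ⁻¹' {P | ¬ J ≤ P.asIdeal ∧ P ∉ S})ᶜ := by
      ext x; simp [hcJ x]
    rw [this]; exact (hS'.preimage hc).isClosed_compl
  obtain ⟨e, he, heS⟩ := PrimeSpectrum.exists_idempotent_basicOpen_eq_of_isClopen hclo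
  obtain ⟨num, ⟨_, m, rfl⟩, hnum⟩ := IsLocalization.exists_mk'_eq (Submonoid.powers f) e
  have hrel : e * algebraMap B (Localization.Away f) (f ^ m) = algebraMap B _ num :=
    hnum ▸ IsLocalization.mk'_spec (Localization.Away f) num _
  refine ⟨m + 1, fun N hN => ⟨num * f ^ (N - m), Ideal.mul_mem_left _ _ (Ideal.pow_mem_of_mem _ hf _ (by omega)), fun P hP => ?_⟩⟩
  have hN' : f ^ N = f ^ m * f ^ (N - m) := by rw [← pow_add]; congr 1; omega
  by_cases hfP : f ∈ P.asIdeal
  · have h1 : f ^ (N - m) ∈ P.asIdeal := Ideal.pow_mem_of_mem _ hfP _ (by omega)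
    have h2 : f ^ N ∈ P.asIdeal := Ideal.pow_mem_of_mem _ hfP _ (by omega)
    exact ⟨fun _ => sub_mem (Ideal.mul_mem_left _ _ h1) h2, fun _ => Ideal.mul_mem_left _ _ h1⟩
  · obtain ⟨x, hx⟩ : P ∈ Set.range c := by
      rw [show Set.range c = _ from PrimeSpectrum.localization_away_comap_range (Localization.Away f) f]
      exact hfP
    have hPm : ∀ b, b ∈ P.asIdeal ↔ algebraMap B (Localization.Away f) b ∈ x.asIdeal := fun b => by
      rw [← hx]; rfl
    have hxS : P ∈ S ↔ e ∉ x.asIdeal := by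
      rw [← hx]; exact Set.ext_iff.1 heS x
    refine ⟨fun hPS => ?_, fun hPS => ?_⟩
    · have he1 : 1 - e ∈ x.asIdeal := by
        have : (1 - e) * e ∈ x.asIdeal := by
          rw [sub_mul, one_mul, he.eq, sub_self]; exact zero_mem _
        exact (x.isPrime.mem_or_mem this).resolve_right (hxS.1 hPS)
      rw [hN', ← sub_mul]
      refine Ideal.mul_mem_right _ _ ((hPm _).2 ?_)
      rw [map_sub, ← hrel, show e * algebraMap B _ (f ^ m) - algebraMap B _ (f ^ m) =
        -((1 - e) * algebraMap B _ (f ^ m)) by ring, neg_mem_iff]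
      exact Ideal.mul_mem_right _ _ he1
    · refine Ideal.mul_mem_right _ _ ((hPm _).2 ?_)
      rw [← hrel]
      exact Ideal.mul_mem_right _ _ (not_not.1 fun hne => hPS (hxS.2 hne))

/-- The data by which a clopen of `D(IB)` is approximated over `A`. -/
theorem exists_approx {φ : A →+* B} {I : Ideal A} (h : Trunc φ I) {r : ℕ} (f : Fin r → A)
    (hf : I = Ideal.span (Set.range f)) {S : Set (PrimeSpectrum B)} (hS : IsOpen S)
    (hS' : IsOpen {P | ¬ I.map φ ≤ P.asIdeal ∧ P ∉ S}) :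
    ∃ (M : ℕ) (F a : Fin r → A), 0 < M ∧ (∀ i, F i ∈ I ∧ a i ∈ I) ∧ I ≤ (Ideal.span (Set.range F)).radical ∧
      (∀ i, (a i * a i - F i * a i) ^ M ∈ Ideal.span (Set.range F) ^ (3 * M)) ∧
      (∀ i j, (a i * F j - a j * F i) ^ M ∈ Ideal.span (Set.range F) ^ (3 * M)) ∧
      ∀ (i : Fin r) (P : PrimeSpectrum B), ¬ I.map φ ≤ P.asIdeal →
        (P ∈ S → φ (a i - F i) ∈ P.asIdeal ⊔ (Ideal.span (Set.range F) ^ (3 * M)).map φ) ∧
        (P ∉ S → φ (a i) ∈ P.asIdeal ⊔ (Ideal.span (Set.range F) ^ (3 * M)).map φ) := by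
  classical
  have hfI : ∀ i, f i ∈ I := fun i => hf ▸ Ideal.subset_span ⟨i, rfl⟩
  choose n hn using fun i => exists_num hS hS' (Ideal.mem_map_of_mem φ (hfI i))
  set N0 := Finset.univ.sup n + 1 with hN0
  choose b hbJ hb using fun i => hn i N0 ((Finset.le_sup (Finset.mem_univ i)).trans (Nat.le_succ _))
  let F : Fin r → A := fun i => f i ^ N0
  have hFI : ∀ i, F i ∈ I := fun i => Ideal.pow_mem_of_mem _ (hfI i) _ (Nat.succ_pos _)
  have hrad : I ≤ (Ideal.span (Set.range F)).radical := by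
    rw [hf, Ideal.span_le]
    rintro _ ⟨i, rfl⟩
    exact ⟨N0, Ideal.subset_span ⟨i, rfl⟩⟩
  -- the residuals are nilpotent
  let res : Fin r ⊕ (Fin r × Fin r) → B :=
    Sum.elim (fun i => b i * b i - φ (F i) * b i) (fun p => b p.1 * φ (F p.2) - b p.2 * φ (F p.1))
  have hres : ∀ x, res x ∈ (⊥ : Ideal B).radical := fun x => by
    rw [Ideal.radical_eq_sInf, Submodule.mem_sInf]
    rintro Q ⟨-, hQ⟩
    let P : PrimeSpectrum B := ⟨Q, hQ⟩
    change res x ∈ P.asIdeal
    by_cases hP : I.map φ ≤ P.asIdeal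
    · rcases x with i | ⟨i, j⟩
      · exact sub_mem (Ideal.mul_mem_left _ _ (hP (hbJ i))) (Ideal.mul_mem_left _ _ (hP (hbJ i)))
      · exact sub_mem (Ideal.mul_mem_right _ _ (hP (hbJ i))) (Ideal.mul_mem_right _ _ (hP (hbJ j)))
    · have hbm : ∀ i, (P ∈ S → b i - φ (F i) ∈ P.asIdeal) ∧ (P ∉ S → b i ∈ P.asIdeal) := fun i => by
        simpa [F, map_pow] using hb i P hP
      rcases x with i | ⟨i, j⟩
      · change b i * b i - φ (F i) * b i ∈ P.asIdeal
        rw [← sub_mul]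
        by_cases hPS : P ∈ S
        · exact Ideal.mul_mem_right _ _ ((hbm i).1 hPS)
        · exact Ideal.mul_mem_left _ _ ((hbm i).2 hPS)
      · change b i * φ (F j) - b j * φ (F i) ∈ P.asIdeal
        by_cases hPS : P ∈ S
        · rw [show b i * φ (F j) - b j * φ (F i) = φ (F j) * (b i - φ (F i)) - φ (F i) * (b j - φ (F j)) by ring]
          exact sub_mem (Ideal.mul_mem_left _ _ ((hbm i).1 hPS)) (Ideal.mul_mem_left _ _ ((hbm j).1 hPS))
        · exact sub_mem (Ideal.mul_mem_right _ _ ((hbm i).2 hPS)) (Ideal.mul_mem_right _ _ ((hbm j).2 hPS))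
  obtain ⟨M0, hM0⟩ := Ideal.exists_pow_le_of_le_radical_of_fg
    (I := Ideal.span (Set.range res)) (J := ⊥) (by rw [Ideal.span_le]; rintro _ ⟨x, rfl⟩; exact hres x)
    (Submodule.fg_span (Set.finite_range res))
  set M := M0 + 1 with hM
  have hnil : ∀ x, res x ^ M = 0 := fun x => by
    have := hM0 (Ideal.pow_mem_pow (Ideal.subset_span (Set.mem_range_self x) : res x ∈ Ideal.span (Set.range res)) M0)
    rw [Ideal.mem_bot] at this
    rw [hM, pow_succ, this, zero_mul]
  obtain ⟨N1, hN1⟩ := Ideal.exists_pow_le_of_le_radical_of_fg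
    (I := I) (J := Ideal.span (Set.range F) ^ (3 * M))
    (by rw [Ideal.radical_pow _ (by omega)]; exact hrad) (hf ▸ Submodule.fg_span (Set.finite_range f))
  set N := N1 + 1
  have hN : I ^ N ≤ Ideal.span (Set.range F) ^ (3 * M) := (Ideal.pow_le_pow_right (Nat.le_succ _)).trans hN1
  choose a ha using fun i => h.surj N (b i)
  have haI : ∀ i, a i ∈ I := fun i => (h.map_mem_iff _).1 (by
    have := Ideal.map_mono (Ideal.pow_le_self (Nat.succ_ne_zero N1)) (ha i)
    simpa using sub_mem (hbJ i) this)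
  have hchi : ∀ x y, y - φ x ∈ (I ^ N).map φ → y ^ M = 0 → x ^ M ∈ Ideal.span (Set.range F) ^ (3 * M) :=
    fun x y hxy hy => hN (by
      rw [← Ideal.Quotient.eq_zero_iff_mem, map_pow, ← h.chi_eq N hxy, ← map_pow, hy, map_zero])
  refine ⟨M, F, a, Nat.succ_pos _, fun i => ⟨hFI i, haI i⟩, hrad, fun i => hchi _ _ ?_ (hnil (Sum.inl i)),
    fun i j => hchi _ _ ?_ (hnil (Sum.inr (i, j))), fun i P hP => ⟨fun hPS => ?_, fun hPS => ?_⟩⟩
  · change b i * b i - φ (F i) * b i - φ (a i * a i - F i * a i) ∈ _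
    rw [show b i * b i - φ (F i) * b i - φ (a i * a i - F i * a i) =
      (b i + φ (a i) - φ (F i)) * (b i - φ (a i)) by simp only [map_sub, map_mul]; ring]
    exact Ideal.mul_mem_left _ _ (ha i)
  · change b i * φ (F j) - b j * φ (F i) - φ (a i * F j - a j * F i) ∈ _
    rw [show b i * φ (F j) - b j * φ (F i) - φ (a i * F j - a j * F i) =
      φ (F j) * (b i - φ (a i)) - φ (F i) * (b j - φ (a j)) by simp only [map_sub, map_mul]; ring]
    exact sub_mem (Ideal.mul_mem_left _ _ (ha i)) (Ideal.mul_mem_left _ _ (ha j))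
  · have h1 : b i - φ (F i) ∈ P.asIdeal := by simpa [F, map_pow] using (hb i P hP).1 hPS
    rw [show φ (a i - F i) = (b i - φ (F i)) + -(b i - φ (a i)) by rw [map_sub]; ring]
    exact Submodule.add_mem_sup h1 (neg_mem (Ideal.map_mono hN (ha i)))
  · rw [show φ (a i) = b i + -(b i - φ (a i)) by ring]
    exact Submodule.add_mem_sup ((hb i P hP).2 hPS) (neg_mem (Ideal.map_mono hN (ha i)))

end Groth.Agent.H11Rig
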