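import Groth.Agent.H11Val.Dominating
import Mathlib.RingTheory.AdicCompletion.Completeness
import Mathlib.RingTheory.AdicCompletion.LocalRing
import Mathlib.RingTheory.AdicCompletion.Algebra
import Mathlib.RingTheory.Spectrum.Prime.Topology
import Mathlib.RingTheory.PrincipalIdealDomain

/-!
# Rings with the same `I`-adic truncations, and lifting specializations
-/

set_option autoImplicit false
set_option linter.style.haveILetI false
set_option linter.unusedSectionVars false
universe u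

namespace Groth.Agent.H11Rig

variable {A B : Type u} [CommRing A] [CommRing B]

/-- `φ : A → B` induces bijections `A/I^n → B/I^nB` and `IB` is contained in the Jacobson radical. -/
structure Trunc (φ : A →+* B) (I : Ideal A) : Prop where
  surj : ∀ (n : ℕ) (b : B), ∃ a, b - φ a ∈ (I ^ n).map φ
  inj : ∀ (n : ℕ) (a : A), φ a ∈ (I ^ n).map φ → a ∈ I ^ n
  jac : I.map φ ≤ (⊥ : Ideal B).jacobson

namespace Trunc

variable {φ : A →+* B} {I : Ideal A} (h : Trunc φ I)
include h

theorem bijective_quotientMap (n : ℕ) :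
    Function.Bijective (Ideal.quotientMap ((I ^ n).map φ) φ Ideal.le_comap_map : A ⧸ I ^ n →+* B ⧸ (I ^ n).map φ) := by
  refine ⟨Ideal.quotientMap_injective' (fun a ha => h.inj n a ha), fun y => ?_⟩
  obtain ⟨b, rfl⟩ := Ideal.Quotient.mk_surjective y
  obtain ⟨a, ha⟩ := h.surj n b
  exact ⟨Ideal.Quotient.mk _ a, by rw [Ideal.quotientMap_mk]; exact (Ideal.Quotient.eq.2 ha).symm⟩

/-- The truncation map `B → A/I^n`. -/
noncomputable def chi (n : ℕ) : B →+* A ⧸ I ^ n :=
  ((RingEquiv.ofBijective _ (h.bijective_quotientMap n)).symm.toRingHom).comp (Ideal.Quotient.mk _)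

theorem chi_map (n : ℕ) (a : A) : h.chi n (φ a) = Ideal.Quotient.mk _ a := by
  change (RingEquiv.ofBijective _ (h.bijective_quotientMap n)).symm (Ideal.Quotient.mk _ (φ a)) = _
  rw [RingEquiv.symm_apply_eq]
  rfl

theorem chi_eq_zero (n : ℕ) (b : B) : h.chi n b = 0 ↔ b ∈ (I ^ n).map φ := by
  change (RingEquiv.ofBijective _ (h.bijective_quotientMap n)).symm (Ideal.Quotient.mk _ b) = _ ↔ _
  rw [map_eq_zero_iff _ (RingEquiv.injective _), Ideal.Quotient.eq_zero_iff_mem]

theorem chi_eq (n : ℕ) {b : B} {a : A} (hb : b - φ a ∈ (I ^ n).map φ) : h.chi n b = Ideal.Quotient.mk _ a := by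
  rw [← h.chi_map n a, ← sub_eq_zero, ← map_sub, h.chi_eq_zero]
  exact hb

theorem chi_factor {m n : ℕ} (hmn : m ≤ n) (b : B) :
    Ideal.Quotient.factor (Ideal.pow_le_pow_right hmn) (h.chi n b) = h.chi m b := by
  obtain ⟨a, ha⟩ := h.surj n b
  rw [h.chi_eq n ha, h.chi_eq m (Ideal.map_mono (Ideal.pow_le_pow_right hmn) ha), Ideal.Quotient.factor_mk]

/-- The reduction `B → A/I`. -/
noncomputable def chi₁ : B →+* A ⧸ I :=
  (Ideal.Quotient.factor (le_of_eq (pow_one I))).comp (h.chi 1)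

theorem chi₁_map (a : A) : h.chi₁ (φ a) = Ideal.Quotient.mk I a := by
  simp [chi₁, h.chi_map]

theorem chi₁_eq_zero (b : B) : h.chi₁ b = 0 ↔ b ∈ I.map φ := by
  obtain ⟨a, ha⟩ := h.surj 1 b
  rw [chi₁, RingHom.comp_apply, h.chi_eq 1 ha, Ideal.Quotient.factor_mk, Ideal.Quotient.eq_zero_iff_mem]
  rw [pow_one] at ha
  constructor
  · intro hI
    simpa using add_mem ha (Ideal.mem_map_of_mem φ hI)
  · intro hb
    have := h.inj 1 a (by rw [pow_one]; simpa using sub_mem hb ha)
    rwa [pow_one] at this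

theorem map_mem_iff (a : A) : φ a ∈ I.map φ ↔ a ∈ I := by
  rw [← h.chi₁_eq_zero, h.chi₁_map, Ideal.Quotient.eq_zero_iff_mem]

theorem exists_sub_mem (b : B) : ∃ a, b - φ a ∈ I.map φ := by
  simpa using h.surj 1 b

/-- A prime of `B` containing `IB` is determined by its trace on `A`. -/
theorem mem_iff_of_le {M : Ideal B} (hM : I.map φ ≤ M) {b : B} {a : A} (hb : b - φ a ∈ I.map φ) :
    b ∈ M ↔ a ∈ M.comap φ := by
  rw [Ideal.mem_comap]
  constructor <;> intro hx
  · simpa using sub_mem hx (hM hb)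
  · simpa using add_mem (hM hb) hx

theorem unique_over {M M' : PrimeSpectrum B} (hM : I.map φ ≤ M.asIdeal) (hM' : I.map φ ≤ M'.asIdeal)
    (e : PrimeSpectrum.comap φ M = PrimeSpectrum.comap φ M') : M = M' := by
  ext b
  obtain ⟨a, ha⟩ := h.exists_sub_mem b
  rw [h.mem_iff_of_le hM ha, h.mem_iff_of_le hM' ha]
  exact SetLike.ext_iff.1 (congrArg PrimeSpectrum.asIdeal e) a

/-- The point of `Spec B` over a point of `V(I)`. -/
noncomputable def above (z : PrimeSpectrum (A ⧸ I)) : PrimeSpectrum B := PrimeSpectrum.comap h.chi₁ z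

theorem le_above (z : PrimeSpectrum (A ⧸ I)) : I.map φ ≤ (h.above z).asIdeal := fun b hb => by
  change h.chi₁ b ∈ z.asIdeal
  rw [(h.chi₁_eq_zero b).2 hb]
  exact zero_mem _

theorem comap_above (z : PrimeSpectrum (A ⧸ I)) :
    PrimeSpectrum.comap φ (h.above z) = PrimeSpectrum.comap (Ideal.Quotient.mk I) z := by
  ext a
  change h.chi₁ (φ a) ∈ z.asIdeal ↔ Ideal.Quotient.mk I a ∈ z.asIdeal
  rw [h.chi₁_map]

/-- **Lifting of specializations.** -/
theorem exists_lift (hI : I.FG) (p m : PrimeSpectrum A) (hpm : p.asIdeal ≤ m.asIdeal)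
    (hp : ¬ I ≤ p.asIdeal) (hm : I ≤ m.asIdeal) :
    ∃ P M : PrimeSpectrum B, P.asIdeal ≤ M.asIdeal ∧ p.asIdeal ≤ (PrimeSpectrum.comap φ P).asIdeal ∧
      ¬ I ≤ (PrimeSpectrum.comap φ P).asIdeal ∧ I.map φ ≤ M.asIdeal ∧ PrimeSpectrum.comap φ M = m := by
  classical
  haveI : (m.asIdeal.map (Ideal.Quotient.mk p.asIdeal)).IsPrime :=
    Ideal.map_isPrime_of_surjective Ideal.Quotient.mk_surjective (by rwa [Ideal.mk_ker])
  obtain ⟨V, hV⟩ := H11Val.exists_valuationSubring_center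
    (algebraMap (A ⧸ p.asIdeal) (FractionRing (A ⧸ p.asIdeal))) (IsFractionRing.injective _ _)
    (m.asIdeal.map (Ideal.Quotient.mk p.asIdeal))
  let g : A →+* V := ((algebraMap (A ⧸ p.asIdeal) (FractionRing (A ⧸ p.asIdeal))).comp
    (Ideal.Quotient.mk p.asIdeal)).codRestrict V fun a => (hV _).1
  have hg0 : ∀ a, g a = 0 ↔ a ∈ p.asIdeal := fun a => by
    rw [← Ideal.Quotient.eq_zero_iff_mem, ← map_eq_zero_iff _ (IsFractionRing.injective (A ⧸ p.asIdeal) (FractionRing (A ⧸ p.asIdeal)))]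
    exact Subtype.ext_iff
  have hgm : ∀ a, g a ∈ IsLocalRing.maximalIdeal V ↔ a ∈ m.asIdeal := fun a => by
    rw [V.valuation_lt_one_iff]
    refine ((hV (Ideal.Quotient.mk _ a)).2).symm.trans ?_
    rw [← Ideal.mem_comap, Ideal.comap_map_of_surjective' _ Ideal.Quotient.mk_surjective, Ideal.mk_ker,
      sup_eq_left.2 hpm]
  obtain ⟨t, ht⟩ := IsBezout.isPrincipal_of_FG _ (Ideal.FG.map hI g)
  change I.map g = Ideal.span {t} at ht
  have htm : t ∈ IsLocalRing.maximalIdeal V := by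
    have : I.map g ≤ IsLocalRing.maximalIdeal V := Ideal.map_le_iff_le_comap.2 fun a ha => (hgm a).2 (hm ha)
    exact this (ht ▸ Ideal.mem_span_singleton_self t)
  have ht0 : t ≠ 0 := by
    rintro rfl
    obtain ⟨a, ha, hap⟩ := SetLike.not_le_iff_exists.1 hp
    have := Ideal.mem_map_of_mem g ha
    rw [ht, Ideal.span_singleton_eq_bot.2 rfl, Ideal.mem_bot, hg0] at this
    exact hap this
  have htu : ¬ IsUnit t := (IsLocalRing.mem_maximalIdeal t).1 htm
  have hpow : ∀ n, (I ^ n).map g = Ideal.span {t ^ n} := fun n => by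
    rw [Ideal.map_pow, ht, Ideal.span_singleton_pow]
  let ψ : ∀ n, B →+* V ⧸ (I ^ n).map g := fun n =>
    (Ideal.quotientMap ((I ^ n).map g) g Ideal.le_comap_map).comp (h.chi n)
  have hψ : ∀ n b a, b - φ a ∈ (I ^ n).map φ → (ψ n b = 0 ↔ t ^ n ∣ g a) := fun n b a hb => by
    simp only [ψ, RingHom.comp_apply, h.chi_eq n hb, Ideal.quotientMap_mk, Ideal.Quotient.eq_zero_iff_mem,
      hpow, Ideal.mem_span_singleton]
  have hψ' : ∀ n a, ψ n (φ a) = 0 ↔ t ^ n ∣ g a := fun n a => hψ n _ a (by simp)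
  let P : Ideal B := ⨅ n, RingHom.ker (ψ n)
  have memP : ∀ b, b ∈ P ↔ ∀ n, ψ n b = 0 := fun b => by simp [P, RingHom.mem_ker]
  have hP1 : (1 : B) ∉ P := fun h1 => by
    have := (hψ' 1 1).1 (by rw [map_one φ]; exact (memP 1).1 h1 1)
    rw [pow_one, map_one] at this
    exact htu (isUnit_of_dvd_one this)
  have hPp : P.IsPrime := by
    refine ⟨fun e => hP1 (e ▸ Submodule.mem_top), fun {b b'} hbb => ?_⟩
    by_contra hc
    push Not at hc
    rw [memP, memP] at hc
    push Not at hc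
    obtain ⟨⟨k, hk⟩, ⟨l, hl⟩⟩ := hc
    set n := k + l + 1 with hn
    obtain ⟨a, ha⟩ := h.surj n b
    obtain ⟨a', ha'⟩ := h.surj n b'
    have hk' : ¬ t ^ k ∣ g a := fun hd => hk ((hψ k b a (Ideal.map_mono (Ideal.pow_le_pow_right (by omega)) ha)).2 hd)
    have hl' : ¬ t ^ l ∣ g a' := fun hd => hl ((hψ l b' a' (Ideal.map_mono (Ideal.pow_le_pow_right (by omega)) ha')).2 hd)
    have hmul : t ^ n ∣ g a * g a' := by
      have := (hψ n (b * b') (a * a') ?_).1 ((memP _).1 hbb n)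
      · rwa [map_mul] at this
      · have : b * b' - φ (a * a') = b * (b' - φ a') + φ a' * (b - φ a) := by rw [map_mul]; ring
        rw [this]
        exact add_mem (Ideal.mul_mem_left _ _ ha') (Ideal.mul_mem_left _ _ ha)
    have h1 : g a ∣ t ^ k := (ValuationRing.dvd_total (t ^ k) (g a)).resolve_left hk'
    have h2 : g a' ∣ t ^ l := (ValuationRing.dvd_total (t ^ l) (g a')).resolve_left hl'
    have h3 : t ^ n ∣ t ^ (k + l) := hmul.trans (pow_add t k l ▸ mul_dvd_mul h1 h2)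
    rw [hn, pow_succ] at h3
    exact htu (isUnit_of_dvd_one ((mul_dvd_mul_iff_left (pow_ne_zero (k + l) ht0)).1 (by simpa using h3)))
  have hmap1 : (I ^ 1).map g ≤ IsLocalRing.maximalIdeal V := by
    rw [hpow, pow_one, Ideal.span_singleton_le_iff_mem]; exact htm
  let M : Ideal B := RingHom.ker ((Ideal.Quotient.factor hmap1).comp (ψ 1))
  have hMp : M.IsPrime := RingHom.ker_isPrime _
  refine ⟨⟨P, hPp⟩, ⟨M, hMp⟩, fun b hb => ?_, fun a ha => ?_, ?_, ?_, ?_⟩
  · change (Ideal.Quotient.factor hmap1) (ψ 1 b) = 0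
    rw [(memP b).1 hb 1, map_zero]
  · exact (memP _).2 fun n => (hψ' n a).2 (by rw [(hg0 a).2 ha]; exact dvd_zero _)
  · intro hIP
    have hle : I.map g ≤ Ideal.span {t ^ 2} := Ideal.map_le_iff_le_comap.2 fun a ha =>
      Ideal.mem_span_singleton.2 ((hψ' 2 a).1 ((memP _).1 (hIP ha) 2))
    have := hle (ht ▸ Ideal.mem_span_singleton_self t)
    rw [Ideal.mem_span_singleton, pow_two] at this
    exact htu (isUnit_of_dvd_one ((mul_dvd_mul_iff_left ht0).1 (by simpa using this)))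
  · exact Ideal.map_le_iff_le_comap.2 fun a ha => by
      change (Ideal.Quotient.factor hmap1) (ψ 1 (φ a)) = 0
      rw [(hψ' 1 a).2, map_zero]
      rw [pow_one, ← Ideal.mem_span_singleton, ← ht]
      exact Ideal.mem_map_of_mem g ha
  · ext a
    change (Ideal.Quotient.factor hmap1) (ψ 1 (φ a)) = 0 ↔ _
    simp only [ψ, RingHom.comp_apply, h.chi_map, Ideal.quotientMap_mk, Ideal.Quotient.factor_mk,
      Ideal.Quotient.eq_zero_iff_mem]
    exact hgm a

end Trunc

theorem trunc_adicCompletion (I : Ideal A) (hI : I.FG) :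
    Trunc (algebraMap A (AdicCompletion I A)) I := by
  have hker : ∀ (n : ℕ) (x : AdicCompletion I A), x ∈ (I ^ n).map (algebraMap A (AdicCompletion I A)) ↔
      AdicCompletion.evalₐ I n x = 0 := fun n x => by
    have e : ((I ^ n).map (algebraMap A (AdicCompletion I A))).restrictScalars A =
        (I ^ n • ⊤ : Submodule A (AdicCompletion I A)) := (Ideal.smul_top_eq_map _).symm
    rw [← Submodule.restrictScalars_mem A, e, AdicCompletion.pow_smul_top_eq_ker_eval hI, LinearMap.mem_ker,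
      ← AdicCompletion.factor_eval_eq_evalₐ I x (le_of_eq (Ideal.mul_top _))]
    refine (map_eq_zero_iff _ fun y z hyz => ?_).symm
    obtain ⟨y, rfl⟩ := Submodule.Quotient.mk_surjective _ y
    obtain ⟨z, rfl⟩ := Submodule.Quotient.mk_surjective _ z
    rw [Submodule.Quotient.eq]
    exact (le_of_eq (Ideal.mul_top _).symm) ((Submodule.Quotient.eq _).1 hyz)
  refine ⟨fun n b => ?_, fun n a ha => ?_, ?_⟩
  · obtain ⟨a, ha⟩ := Ideal.Quotient.mk_surjective (AdicCompletion.evalₐ I n b)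
    refine ⟨a, (hker n _).2 ?_⟩
    rw [map_sub, AlgHom.commutes, Ideal.Quotient.algebraMap_eq, ha, sub_self]
  · rw [hker, AlgHom.commutes, Ideal.Quotient.algebraMap_eq, Ideal.Quotient.eq_zero_iff_mem] at ha
    exact ha
  · haveI := AdicCompletion.isAdicComplete_self I hI
    exact IsAdicComplete.le_jacobson_bot _

end Groth.Agent.H11Rig
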