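import Groth.Agent.H11Rig.Reps
import Groth.Agent.H15Site.SetDescent.Apps

/-!
# Bijectivity of the pullback of global sections of étale sheaves of sets
-/

set_option autoImplicit false
set_option linter.style.haveILetI false
set_option linter.unusedSectionVars false
set_option backward.isDefEq.respectTransparency false
set_option backward.isDefEq.respectTransparency.types false

universe u

open CategoryTheory CategoryTheory.Limits AlgebraicGeometry Opposite TopologicalSpace
open scoped Groth.Agent.H18Et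

namespace Groth.Agent.H11Rig

open H15Site.SetDescent H18Et H18PBC

variable {Z X T : Scheme.{u}}

/-- Irreducible schemes integral over the base have connected preimages. -/
def CPI (f : Z ⟶ X) : Prop :=
  ∀ (Y : Scheme.{u}) (π : Y ⟶ X), IsIntegralHom π → IrreducibleSpace Y → ConnectedSpace ↥(pullback π f)

theorem isConnected_preimage_closure {f : Z ⟶ X} (hC : CPI f) (π : T ⟶ X) [IsIntegralHom π] (x : T) :
    _root_.IsConnected ((pullback.fst π f) ⁻¹' closure {x}) := by
  let C : Closeds T := ⟨closure {x}, isClosed_closure⟩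
  let Y := (Scheme.IdealSheafData.vanishingIdeal C).subscheme
  let j : Y ⟶ T := (Scheme.IdealSheafData.vanishingIdeal C).subschemeι
  have hj : Set.range j = closure {x} := by
    rw [Scheme.IdealSheafData.range_subschemeι, Scheme.IdealSheafData.coe_support_vanishingIdeal]
    rfl
  haveI : IrreducibleSpace Y := by
    have h' : IsIrreducible (closure {x} : Set T) := isIrreducible_singleton.closure
    rw [← hj] at h'
    haveI : PreirreducibleSpace (Set.range j) := Subtype.preirreducibleSpace h'.isPreirreducible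
    haveI : Nonempty (Set.range j) := h'.nonempty.to_subtype
    haveI : IrreducibleSpace (Set.range j) := { toNonempty := inferInstance }
    let e := j.isEmbedding.toHomeomorph.symm
    have h := (irreducibleSpace_def (Set.range j)).1 inferInstance
    have h'' := h.image e e.continuous.continuousOn
    rw [Set.top_eq_univ, Set.image_univ, e.surjective.range_eq] at h''
    exact (irreducibleSpace_def Y).2 h''
  haveI : IsIntegralHom (j ≫ π) := inferInstance
  haveI := hC Y (j ≫ π) inferInstance inferInstance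
  let m : pullback (j ≫ π) f ⟶ pullback π f :=
    pullback.map (j ≫ π) f π f j (𝟙 Z) (𝟙 X) (by simp) (by simp)
  have e : Set.range m = (pullback.fst π f) ⁻¹' closure {x} := by
    rw [Scheme.Pullback.range_map, hj]
    simp
  rw [← e]
  exact isConnected_range m.continuous

theorem exists_specializes {f : Z ⟶ X} (hC : CPI f) (π : T ⟶ X) [IsIntegralHom π] (x : T) :
    ∃ z : ↥(pullback π f), x ⤳ pullback.fst π f z := by
  obtain ⟨z, hz⟩ := (isConnected_preimage_closure hC π x).nonempty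
  exact ⟨z, specializes_iff_mem_closure.2 hz⟩

/-- Sections agreeing over the image agree. -/
theorem eq_of_agree_range {f : Z ⟶ X} (hC : CPI f) (π : T ⟶ X) [IsIntegralHom π] {F : EtDesc.Sh T}
    {U : T.Etale} [IsIso U.hom] (s t : F.obj.obj (op U))
    (h : ∀ (u : U.left) (z : ↥(pullback π f)), U.hom u = pullback.fst π f z → u ∈ agree F s t) : s = t := by
  refine eq_of_agree_eq_univ F s t fun u => ?_
  obtain ⟨z, hz⟩ := exists_specializes hC π (U.hom u)
  obtain ⟨u', hu'⟩ := U.hom.homeomorph.surjective (pullback.fst π f z)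
  have hu'' : U.hom u' = pullback.fst π f z := hu'
  exact (U.hom.homeomorph.isInducing.specializes_iff.1 (hu'' ▸ hz)).mem_open (isOpen_agree _ _ _) (h u' z hu'')

variable {f : Z ⟶ X}

theorem pullSect_top_injective (hC : CPI f) (G : EtDesc.Sh X) :
    Function.Injective (pullSect f G (U := EtCoh.top X)) := fun s t h => by
  haveI : IsIso (EtCoh.top X).hom := inferInstanceAs (IsIso (𝟙 X))
  refine eq_of_agree_range hC (𝟙 X) s t fun u z hu => ?_
  obtain ⟨v, hv, -⟩ := Scheme.Pullback.exists_preimage_pullback (f := (EtCoh.top X).hom) (g := f) u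
    (pullback.snd (𝟙 X) f z) (hu.trans (congrArg (fun q : pullback (𝟙 X) f ⟶ X => q z)
      ((Category.comp_id _).symm.trans pullback.condition)))
  refine hv ▸ (mem_agree_pullSect f G s t v).1 ?_
  rw [h]
  exact ⟨_, 𝟙 _, v, rfl, rfl⟩

set_option maxHeartbeats 1600000 in
theorem pullSect_top_surjective [CompactSpace X] [QuasiSeparatedSpace X] [CompactSpace Z] (hC : CPI f)
    (G : EtDesc.Sh X) : Function.Surjective (pullSect f G (U := EtCoh.top X)) := fun σ => by
  classical
  let X' := H7Flat.aicScheme X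
  let π : X' ⟶ X := H7Flat.aicProj X
  haveI : IsIntegralHom π := H7Flat.isIntegralHom_aicProj X
  haveI : Surjective π := ⟨H7Flat.surjective_aicProj X⟩
  haveI : CompactSpace X' := QuasiCompact.compactSpace_of_compactSpace π
  haveI : QuasiSeparatedSpace X' := quasiSeparatedSpace_of_quasiSeparated π
  haveI : SpectralSpace X' := { }
  haveI : CompactSpace ↥(pullback π f) := QuasiCompact.compactSpace_of_compactSpace (pullback.snd π f)
  have hrep := fun z : ↥(pullback π f) => exists_good (f := f) (G := G) (σ := σ) (p := π) (sl_aicScheme X) z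
  choose Wo W k hk t ht using hrep
  let G' := (EtDesc.pullSh π).obj G
  let A : ↥(pullback π f) → Opens ↥(pullback π f) := fun a => ⟨good σ (k a) (hk a) (t a), isOpen_good _ _ _⟩
  obtain ⟨F, O₀, hOW, hOcov, hOE⟩ := exists_compatible_refinement (X := X') (Z := ↥(pullback π f))
    (pullback.fst π f) (pullback.fst π f).continuous (isConnected_preimage_closure hC π) Wo A ht
    (fun a z hz => hz.1)
    (fun a b => relSet G' (repSec G π (k a) (hk a) (t a)) (repSec G π (k b) (hk b) (t b)))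
    (fun a b => isOpen_relSet _ _)
    (fun a b z hza hzb => (good_iff (k a) (hk a) (t a) (k b) (hk b) (t b) hza hzb.1).1 hzb)
    (fun a b x => relSet_symm) (fun a b c x => relSet_trans)
  let O : ↥(pullback π f) → X'.Opens := O₀
  have hOW' : ∀ a, O a ≤ Wo a := hOW
  let kk : ∀ a : F, (O a.1 : Scheme.{u}) ⟶ (W a.1).left := fun a => X'.homOfLE (hOW' a.1) ≫ k a.1
  have hkk : ∀ a : F, kk a ≫ (W a.1).hom = (O a.1).ι ≫ π := fun a =>
    homOfLE_comp (hOW' a.1) π (k a.1) (hk a.1)
  have hgood : ∀ (a : F) (z : ↥(pullback π f)), pullback.fst π f z ∈ O a.1 →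
      z ∈ good σ (kk a) (hkk a) (t a.1) := fun a z hz => by
    refine good_of_le (hOW' a.1) (k a.1) (hk a.1) (t a.1) ?_ hz
    exact (good_iff (k z) (hk z) (t z) (k a.1) (hk a.1) (t a.1) (ht z) (hOW' a.1 hz)).2
      (relSet_symm ((hOE a.1 a.2 _ hz).1 z specializes_rfl))
  have hiso : IsIso ((EtCoh.bc π).obj (EtCoh.top X)).hom := inferInstanceAs (IsIso (pullback.snd (𝟙 X) π))
  obtain ⟨s', hs'⟩ := exists_glue (G := G') (EtCore.bcTopIsTerminal π) (fun a : F => O a.1)
    (fun x => by obtain ⟨a, ha, hx⟩ := hOcov x; exact ⟨⟨a, ha⟩, hx⟩)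
    (fun a => repSec G π (kk a) (hkk a) (t a.1))
    (fun a b x hxa hxb => by
      rw [← map_openLE_repSec G π (hOW' a.1) (k a.1) (hk a.1) (t a.1) (hkk a),
        ← map_openLE_repSec G π (hOW' b.1) (k b.1) (hk b.1) (t b.1) (hkk b)]
      exact relSet_map (hOW' a.1) (hOW' b.1) hxa hxb ((hOE a.1 a.2 x hxa).2 b.1 b.2 hxb))
  have hcov : ∀ x : X', ∃ a : F, x ∈ O a.1 := fun x => by
    obtain ⟨a, ha, hx⟩ := hOcov x; exact ⟨⟨a, ha⟩, hx⟩
  -- descent
  have hdesc : trans₁ π G (EtCoh.top X) s' = trans₂ π G (EtCoh.top X) s' := by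
    haveI : IsIntegralHom (q₀ π) := inferInstanceAs (IsIntegralHom (pullback.fst π π ≫ π))
    haveI : IsIso ((EtCoh.bc (q₀ π)).obj (EtCoh.top X)).hom :=
      inferInstanceAs (IsIso (pullback.snd (𝟙 X) (q₀ π)))
    refine eq_of_agree_range hC (q₀ π) _ _ fun u₀ z₂ hu₀ => ?_
    let x₂ := pullback.fst (q₀ π) f z₂
    let m₁ : pullback (q₀ π) f ⟶ pullback π f :=
      pullback.map (q₀ π) f π f (pullback.fst π π) (𝟙 Z) (𝟙 X) (by simp) (by simp)
    let m₂ : pullback (q₀ π) f ⟶ pullback π f :=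
      pullback.map (q₀ π) f π f (pullback.snd π π) (𝟙 Z) (𝟙 X)
        (by rw [Category.comp_id]; exact pullback.condition) (by simp)
    obtain ⟨a, hua⟩ := hcov (pullback.fst π π x₂)
    obtain ⟨c, huc⟩ := hcov (pullback.snd π π x₂)
    let O' : (EtDesc.X2 π).Opens := (pullback.fst π π ⁻¹ᵁ O a.1) ⊓ (pullback.snd π π ⁻¹ᵁ O c.1)
    let r₁ : (O' : Scheme.{u}) ⟶ (O a.1 : Scheme.{u}) := (pullback.fst π π).resLE (O a.1) O' inf_le_left
    let r₂ : (O' : Scheme.{u}) ⟶ (O c.1 : Scheme.{u}) := (pullback.snd π π).resLE (O c.1) O' inf_le_right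
    have e₁ : r₁ ≫ (O a.1).ι = O'.ι ≫ pullback.fst π π := Scheme.Hom.resLE_comp_ι _ _
    have e₂ : r₂ ≫ (O c.1).ι = O'.ι ≫ pullback.snd π π := Scheme.Hom.resLE_comp_ι _ _
    have hr₁ : (r₁ ≫ kk a) ≫ (W a.1).hom = O'.ι ≫ q₀ π := by
      rw [Category.assoc, hkk a, reassoc_of% e₁]
    have hr₂ : (r₂ ≫ kk c) ≫ (W c.1).hom = O'.ι ≫ q₀ π := by
      rw [Category.assoc, hkk c, reassoc_of% e₂, ← pullback.condition]
    have hm₁ : pullback.fst π f (m₁ z₂) = pullback.fst π π x₂ :=
      congrArg (fun q : pullback (q₀ π) f ⟶ X' => q z₂) (show m₁ ≫ pullback.fst π f = _ from pullback.lift_fst _ _ _)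
    have hm₂ : pullback.fst π f (m₂ z₂) = pullback.snd π π x₂ :=
      congrArg (fun q : pullback (q₀ π) f ⟶ X' => q z₂) (show m₂ ≫ pullback.fst π f = _ from pullback.lift_fst _ _ _)
    have g₁ : z₂ ∈ good σ (r₁ ≫ kk a) hr₁ (t a.1) :=
      good_comp (pullback.fst π π) (q₀ π) rfl r₁ e₁ (kk a) (hkk a) hr₁ (t a.1) ⟨hua, huc⟩
        (hgood a (m₁ z₂) (hm₁ ▸ hua))
    have g₂ : z₂ ∈ good σ (r₂ ≫ kk c) hr₂ (t c.1) :=
      good_comp (pullback.snd π π) (q₀ π) pullback.condition.symm r₂ e₂ (kk c) (hkk c) hr₂ (t c.1) ⟨hua, huc⟩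
        (hgood c (m₂ z₂) (hm₂ ▸ huc))
    have hrel := (good_iff _ _ _ _ _ _ g₁ g₂.1).1 g₂
    have hag := agree_of_relSet (Q := openEt O') (𝟙 _) (𝟙 _) (⟨x₂, hua, huc⟩ : (O' : Scheme.{u})) hrel
    rw [op_id, CategoryTheory.Functor.map_id] at hag
    replace hag : (⟨x₂, hua, huc⟩ : (O' : Scheme.{u})) ∈ agree ((EtDesc.pullSh (q₀ π)).obj G) (U := openEt O')
        (repSec G (q₀ π) (r₁ ≫ kk a) hr₁ (t a.1)) (repSec G (q₀ π) (r₂ ≫ kk c) hr₂ (t c.1)) := hag
    have k₁ := transfer_key G π (pullback.fst π π) (q₀ π) rfl (kk a) (hkk a) (t a.1) s' (hs' a) r₁ e₁ hr₁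
    have k₂ := transfer_key G π (pullback.snd π π) (q₀ π) pullback.condition.symm (kk c) (hkk c) (t c.1) s'
      (hs' c) r₂ e₂ hr₂
    replace hag := (congrArg₂ (fun y z => (⟨x₂, hua, huc⟩ : (O' : Scheme.{u})) ∈
      agree ((EtDesc.pullSh (q₀ π)).obj G) (U := openEt O') y z) k₁ k₂).mpr hag
    rw [mem_agree_map] at hag
    have hgx : ((EtCore.bcTopIsTerminal (q₀ π)).from (openEt O')).left.base ⟨x₂, hua, huc⟩ = u₀ := by
      refine (((EtCoh.bc (q₀ π)).obj (EtCoh.top X)).hom.homeomorph).injective ?_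
      exact (congrArg (fun q : (O' : Scheme.{u}) ⟶ EtDesc.X2 π => q ⟨x₂, hua, huc⟩)
        (Over.w ((EtCore.bcTopIsTerminal (q₀ π)).from (openEt O')).hom)).trans hu₀.symm
    exact hgx ▸ hag
  have hπu : EtDesc.IsUnivSubmersive π := fun _ g => ⟨(pullback.snd π g).surjective,
    (pullback.snd π g).isClosedMap.isQuotientMap (pullback.snd π g).continuous (pullback.snd π g).surjective⟩
  obtain ⟨s, hs, -⟩ := existsUnique_section hπu G (EtCoh.top X) s' hdesc
  refine ⟨s, eq_of_agree_eq_univ _ _ _ fun v => ?_⟩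
  let z : Z := ((EtCoh.bc f).obj (EtCoh.top X)).hom v
  obtain ⟨z', hz'⟩ := (pullback.snd π f).surjective z
  obtain ⟨a, hxa⟩ := hcov (pullback.fst π f z')
  obtain ⟨_, hg⟩ := hgood a z' hxa
  let W₀ := W a.1
  let y : W₀.left := kk a ⟨pullback.fst π f z', hxa⟩
  have hag : y ∈ agree G (G.obj.map (toTop W₀).op s) (t a.1) := by
    have h1 : (bcl π (U := openEt (O a.1)) (kk a) (hkk a)).left.base ⟨pullback.fst π f z', hxa⟩ ∈
        agree _ (pullSect π G (G.obj.map (toTop W₀).op s)) (pullSect π G (t a.1)) := by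
      rw [← mem_agree_map, pullSect_map, hs, ← Functor.map_comp_apply, ← op_comp,
        (EtCore.bcTopIsTerminal π).hom_ext (_ ≫ _) ((EtCore.bcTopIsTerminal π).from (openEt (O a.1))), hs']
      exact ⟨_, 𝟙 _, _, rfl, rfl⟩
    exact Eq.mp (congrArg (fun q : W₀.left => q ∈ agree G (G.obj.map (toTop W₀).op s) (t a.1))
      (congrArg (fun q : (O a.1 : Scheme.{u}) ⟶ W₀.left => q ⟨pullback.fst π f z', hxa⟩)
        (bcl_fst π (U := openEt (O a.1)) (kk a) (hkk a))))
      ((mem_agree_pullSect π G _ _ _).1 h1)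
  let m := mapW (f := f) (p := π) (kk a) (hkk a)
  let z'' : ((pullback.fst π f ⁻¹ᵁ O a.1 : (pullback π f).Opens) : Scheme.{u}) := ⟨z', hxa⟩
  have hmy : pullback.fst W₀.hom f (m z'') = y := by
    refine (congrArg (fun q : _ ⟶ W₀.left => q z'') (mapW_fst (kk a) (hkk a))).trans ?_
    exact congrArg (kk a) (resLE_pt (pullback.fst π f) le_rfl hxa)
  have h2 : m z'' ∈ agree _ (pullSect f G (G.obj.map (toTop W₀).op s)) (pullSect f G (t a.1)) :=
    (mem_agree_pullSect f G _ _ _).2 (hmy.symm ▸ hag)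
  have h3 := H18PBC.agree_trans _ h2 hg
  rw [pullSect_map] at h3
  unfold resσ at h3
  rw [mem_agree_map] at h3
  convert h3 using 1
  haveI : IsIso ((EtCoh.bc f).obj (EtCoh.top X)).hom := inferInstanceAs (IsIso (pullback.snd (𝟙 X) f))
  refine (((EtCoh.bc f).obj (EtCoh.top X)).hom.homeomorph).injective ?_
  refine Eq.trans ?_ (congrArg (fun q : ((EtCoh.bc f).obj W₀).left ⟶ Z => q (m z''))
    (Over.w ((EtCoh.bc f).map (toTop W₀)).hom)).symm
  refine hz'.symm.trans ?_
  exact (congrArg (fun q : _ ⟶ Z => q z'') (mapW_snd (kk a) (hkk a))).symm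

/-- **Criterion for the bijectivity of the pullback of global sections.** -/
theorem bijective_secPull [CompactSpace X] [QuasiSeparatedSpace X] [CompactSpace Z] (hC : CPI f)
    (G : EtDesc.Sh X) : Function.Bijective (EtDesc.secPull f G) := by
  rw [show EtDesc.secPull f G = ((EtDesc.pullSh f).obj G).obj.map (EtCore.bcTopIso f).inv.op ∘
    pullSect f G (U := EtCoh.top X) from funext (secPull_eq f G)]
  exact ((isIso_iff_bijective _).1 inferInstance).comp ⟨pullSect_top_injective hC G, pullSect_top_surjective hC G⟩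

end Groth.Agent.H11Rig
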