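import Groth.Agent.H11Rig.Main
import Groth.Agent.H11Rig.Criterion
import Groth.Agent.H9Hens.Pair
import Groth.Agent.H9Hens.Idem
import Mathlib.AlgebraicGeometry.Normalization
import Mathlib.AlgebraicGeometry.Pullbacks
import Mathlib.AlgebraicGeometry.Restrict
import Mathlib.RingTheory.IntegralClosure.Algebra.Basic

/-!
# Gabber rigidity: connectedness of preimages of irreducible integral schemes over the open
-/

set_option autoImplicit false
set_option linter.style.haveILetI false
set_option linter.unusedSectionVars false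
set_option backward.isDefEq.respectTransparency false
universe u

open CategoryTheory CategoryTheory.Limits AlgebraicGeometry TopologicalSpace
open scoped TensorProduct

namespace Groth.Agent.H11Rig

variable {A B : Type u} [CommRing A] [CommRing B] {φ : A →+* B} {I : Ideal A}

theorem connectedSpace_preimage [HenselianRing A I] (h : Trunc φ I) (hI : I.FG) {U : Set (PrimeSpectrum A)}
    (hU : IsOpen U) (hUI : {p : PrimeSpectrum A | ¬ I ≤ p.asIdeal} ⊆ U) [ConnectedSpace U] :
    ConnectedSpace ↥(PrimeSpectrum.comap φ ⁻¹' U) := by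
  rw [connectedSpace_iff_clopen]
  refine ⟨?_, fun S hS => ?_⟩
  · by_contra hne
    rw [not_nonempty_iff] at hne
    have := clopen_inj h hI hUI (U := U) isClopen_empty isClopen_univ (Set.ext fun x => hne.elim x)
    exact Set.empty_ne_univ this
  · obtain ⟨T, hT, rfl⟩ := clopen_surj h hI hU hUI hS
    rcases isClopen_iff.1 hT with rfl | rfl
    exacts [Or.inl rfl, Or.inr rfl]

/-- Base change of a truncation along an integral algebra. -/
theorem Trunc.baseChange [Algebra A B] (h : Trunc (algebraMap A B) I) (A' : Type u) [CommRing A'] [Algebra A A']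
    [Algebra.IsIntegral A A'] :
    Trunc (Algebra.TensorProduct.includeRight (R := A) (A := B) (B := A')).toRingHom (I.map (algebraMap A A')) := by
  set ψ := (Algebra.TensorProduct.includeRight (R := A) (A := B) (B := A')).toRingHom with hψ
  have hmap : ∀ n, ((I.map (algebraMap A A')) ^ n).map ψ = ((I ^ n).map (algebraMap A B)).map
      (Algebra.TensorProduct.includeLeftRingHom : B →+* B ⊗[A] A') := fun n => by
    rw [← Ideal.map_pow, Ideal.map_map, Ideal.map_map]
    congr 1
    ext a
    exact ((Algebra.TensorProduct.includeRight (R := A) (A := B) (B := A')).commutes a).trans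
      ((Algebra.TensorProduct.includeLeft (R := A) (S := A) (A := B) (B := A')).commutes a).symm
  refine ⟨fun n z => ?_, fun n x hx => ?_, ?_⟩
  · induction z using TensorProduct.induction_on with
    | zero => exact ⟨0, by simp⟩
    | tmul b x =>
      obtain ⟨a, ha⟩ := h.surj n b
      refine ⟨a • x, ?_⟩
      have e : b ⊗ₜ[A] x - ψ (a • x) = (Algebra.TensorProduct.includeLeftRingHom (b - algebraMap A B a)) * (1 ⊗ₜ x) := by
        show b ⊗ₜ[A] x - 1 ⊗ₜ[A] (a • x) = ((b - algebraMap A B a) ⊗ₜ[A] (1 : A')) * _
        rw [Algebra.TensorProduct.tmul_mul_tmul, mul_one, one_mul, TensorProduct.sub_tmul,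
          Algebra.algebraMap_eq_smul_one, TensorProduct.smul_tmul]
      rw [e, hmap]
      exact Ideal.mul_mem_right _ _ (Ideal.mem_map_of_mem _ ha)
    | add y z hy hz =>
      obtain ⟨a, ha⟩ := hy
      obtain ⟨c, hc⟩ := hz
      exact ⟨a + c, by rw [map_add, add_sub_add_comm]; exact add_mem ha hc⟩
  · let J := (I.map (algebraMap A A')) ^ n
    have hJ : I ^ n ≤ J.comap (algebraMap A A') := by
      rw [← Ideal.map_le_iff_le_comap, Ideal.map_pow]
    let β₀ : B →+* A' ⧸ J := (Ideal.quotientMap J (algebraMap A A') hJ).comp (h.chi n)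
    let β : B →ₐ[A] A' ⧸ J := ⟨β₀, fun a => by
      change Ideal.quotientMap J (algebraMap A A') hJ (h.chi n (algebraMap A B a)) =
        Ideal.Quotient.mk J (algebraMap A A' a)
      rw [h.chi_map, Ideal.quotientMap_mk]⟩
    let ρ : B ⊗[A] A' →ₐ[A] A' ⧸ J :=
      Algebra.TensorProduct.lift β (Ideal.Quotient.mkₐ A J) fun _ _ => Commute.all _ _
    have hρ : ∀ y, ρ (ψ y) = Ideal.Quotient.mk J y := fun y => by
      show ρ ((1 : B) ⊗ₜ[A] y) = _
      rw [Algebra.TensorProduct.lift_tmul, map_one, one_mul]
      rfl
    have hle : ((I.map (algebraMap A A')) ^ n).map ψ ≤ RingHom.ker ρ.toRingHom := by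
      rw [Ideal.map_le_iff_le_comap]
      intro y hy
      exact (hρ y).trans (Ideal.Quotient.eq_zero_iff_mem.2 hy)
    have := hle hx
    exact Ideal.Quotient.eq_zero_iff_mem.1 ((hρ x).symm.trans this)
  · have := hmap 1
    rw [pow_one, pow_one] at this
    rw [this]
    exact H9Hens.map_le_jacobson_of_isIntegral (A := B) (B := B ⊗[A] A') h.jac

set_option maxHeartbeats 800000 in
/-- Irreducible schemes integral over `U` have connected preimages over the inverse image of `U`. -/
theorem cpi_morphismRestrict [HenselianRing A I] (h : Trunc φ I) (hI : I.FG)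
    (U : (Spec (CommRingCat.of A)).Opens) (hU : IsCompact (U : Set (Spec (CommRingCat.of A))))
    (hUI : ∀ x : Spec (CommRingCat.of A), x ∉ U → I ≤ x.asIdeal) :
    CPI (Spec.map (CommRingCat.ofHom φ) ∣_ U) := by
  intro Y q hq hY
  haveI := hq
  haveI := hY
  letI : Algebra A B := φ.toAlgebra
  haveI : QuasiCompact U.ι :=
    (quasiCompact_iff_compactSpace U.ι).2 (isCompact_iff_compactSpace.1 hU)
  let g : Y ⟶ Spec (CommRingCat.of A) := q ≫ U.ι
  haveI : QuasiCompact g := inferInstanceAs (QuasiCompact (q ≫ U.ι))
  haveI : QuasiSeparated g := inferInstanceAs (QuasiSeparated (q ≫ U.ι))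
  let N := g.normalization
  haveI : IsAffine N := isAffine_of_isAffineHom g.fromNormalization
  let α : CommRingCat.of A ⟶ Γ(N, ⊤) := Spec.preimage (N.isoSpec.inv ≫ g.fromNormalization)
  have hα : Spec.map α = N.isoSpec.inv ≫ g.fromNormalization := Spec.map_preimage _
  letI : Algebra A Γ(N, ⊤) := α.hom.toAlgebra
  haveI : Algebra.IsIntegral A Γ(N, ⊤) := by
    haveI : IsIntegralHom (Spec.map α) := by rw [hα]; infer_instance
    exact algebraMap_isIntegral_iff.1 (IsIntegralHom.SpecMap_iff.1 ‹_›)
  let A' : Type u := Γ(N, ⊤)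
  haveI : HenselianRing A' (I.map (algebraMap A A')) := H9Hens.henselianRing_of_isIntegral (I := I) A'
  -- `Y` is the preimage of `U`
  have hV : IsPullback (𝟙 Y) q g U.ι := by
    simpa [g] using (IsPullback.of_horiz_isIso (fst := 𝟙 Y) (snd := q) (f := q) (g := 𝟙 _)
      ⟨by simp⟩).paste_vert (IsKernelPair.id_of_mono U.ι)
  haveI : IsIntegralHom (pullback.snd g U.ι) := by
    rw [← MorphismProperty.cancel_left_of_respectsIso @IsIntegralHom hV.isoPullback.hom, hV.isoPullback_hom_snd]
    infer_instance
  have hN : IsPullback g.toNormalization q g.fromNormalization U.ι := by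
    let k : pullback g U.ι ⟶ pullback g.fromNormalization U.ι :=
      (pullback.snd g U.ι).toNormalization ≫ g.normalizationPullback U.ι
    have : IsIso k := inferInstanceAs (IsIso (_ ≫ _))
    refine IsPullback.of_iso_pullback ⟨by rw [g.toNormalization_fromNormalization]⟩
      (hV.isoPullback ≪≫ asIso k) ?_ ?_
    · simp [k]
    · simp [k]
  haveI : IsOpenImmersion g.toNormalization :=
    MorphismProperty.of_isPullback (P := @IsOpenImmersion) hN.flip inferInstance
  let t : Y ⟶ Spec (CommRingCat.of A') := g.toNormalization ≫ N.isoSpec.hom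
  have htα : t ≫ Spec.map α = g := by
    rw [hα, Category.assoc, Iso.hom_inv_id_assoc, g.toNormalization_fromNormalization]
  let U' : Set (PrimeSpectrum A') := PrimeSpectrum.comap (algebraMap A A') ⁻¹' (U : Set (Spec (CommRingCat.of A)))
  have hrange : Set.range t = U' := by
    have e : ∀ n : N, g.fromNormalization n = PrimeSpectrum.comap (algebraMap A A') (N.isoSpec.hom n) := fun n => by
      have : g.fromNormalization = N.isoSpec.hom ≫ Spec.map α := by rw [hα, Iso.hom_inv_id_assoc]
      rw [this]; rfl
    ext x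
    constructor
    · rintro ⟨y, rfl⟩
      show PrimeSpectrum.comap _ _ ∈ (U : Set (Spec (CommRingCat.of A)))
      rw [show t y = N.isoSpec.hom (g.toNormalization y) from rfl, ← e, ← Scheme.Hom.comp_apply,
        g.toNormalization_fromNormalization]
      exact (q y).2
    · intro hx
      obtain ⟨n, rfl⟩ := N.isoSpec.hom.surjective x
      have hn : g.fromNormalization n ∈ U := by rw [e]; exact hx
      obtain ⟨w, hw, -⟩ := Scheme.Pullback.exists_preimage_pullback (f := g.fromNormalization) (g := U.ι) n
        ⟨_, hn⟩ rfl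
      refine ⟨hN.isoPullback.inv w, ?_⟩
      show ((hN.isoPullback.inv ≫ g.toNormalization) ≫ N.isoSpec.hom) w = _
      rw [hN.isoPullback_inv_fst]
      exact congrArg N.isoSpec.hom hw
  haveI : ConnectedSpace U' := by
    rw [← hrange]
    exact isConnected_iff_connectedSpace.1 (isConnected_range t.continuous)
  have hUI' : {p : PrimeSpectrum A' | ¬ I.map (algebraMap A A') ≤ p.asIdeal} ⊆ U' := fun p hp => by
    by_contra hc
    exact hp (Ideal.map_le_iff_le_comap.2 (hUI _ hc))
  haveI := connectedSpace_preimage (Trunc.baseChange (A := A) (B := B) h A') (hI.map _)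
    (U.isOpen.preimage (PrimeSpectrum.continuous_comap _)) hUI'
  -- the square over `Spec A'`
  let π := Spec.map (CommRingCat.ofHom φ)
  let ψ : A' →+* B ⊗[A] A' := (Algebra.TensorProduct.includeRight : A' →ₐ[A] B ⊗[A] A').toRingHom
  have hsq : IsPullback (Spec.map (CommRingCat.ofHom ψ))
      (Spec.map (CommRingCat.ofHom (Algebra.TensorProduct.includeLeftRingHom : B →+* B ⊗[A] A')))
      (Spec.map α) π :=
    (isPullback_SpecMap_of_isPushout _ _ _ _ (CommRingCat.isPushout_tensorProduct A B A')).flip
  have hres : IsPullback (pullback.fst q (π ∣_ U)) (pullback.snd q (π ∣_ U) ≫ (π ⁻¹ᵁ U).ι) g π :=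
    (IsPullback.of_hasPullback q (π ∣_ U)).paste_vert (isPullback_morphismRestrict π U)
  let m := hsq.lift (pullback.fst q (π ∣_ U) ≫ t) (pullback.snd q (π ∣_ U) ≫ (π ⁻¹ᵁ U).ι)
    (by rw [Category.assoc, htα, hres.w])
  have htop : IsPullback (pullback.fst q (π ∣_ U)) m t (Spec.map (CommRingCat.ofHom ψ)) := by
    refine IsPullback.of_bot ?_ (hsq.lift_fst _ _ _).symm hsq
    rw [hsq.lift_snd]
    exact htα.symm ▸ hres
  haveI : IsOpenImmersion t := inferInstanceAs (IsOpenImmersion (g.toNormalization ≫ N.isoSpec.hom))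
  haveI : IsOpenImmersion m := MorphismProperty.of_isPullback (P := @IsOpenImmersion) htop inferInstance
  have hm : Set.range m = PrimeSpectrum.comap ψ ⁻¹' U' := by
    rw [← htop.isoPullback_hom_snd, Scheme.Hom.comp_base, TopCat.coe_comp,
      Set.range_comp, Set.range_eq_univ.2 htop.isoPullback.hom.surjective, Set.image_univ,
      Scheme.Pullback.range_snd, hrange]
    rfl
  haveI : ConnectedSpace (Set.range m) := by rw [hm]; assumption
  exact m.isEmbedding.toHomeomorph.symm.surjective.connectedSpace m.isEmbedding.toHomeomorph.symm.continuous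

end Groth.Agent.H11Rig
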