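import Groth.Agent.H11Rig.Criterion
import Groth.Agent.H06GRConn.Henselian
import Mathlib.AlgebraicGeometry.Pullbacks
import Mathlib.AlgebraicGeometry.Properties
import Mathlib.FieldTheory.PurelyInseparable.Basic

/-!
# Local homomorphisms out of strictly henselian rings; invariance under isomorphisms
-/

set_option autoImplicit false
set_option linter.style.haveILetI false
set_option linter.unusedSectionVars false
set_option backward.isDefEq.respectTransparency false
universe u

open CategoryTheory CategoryTheory.Limits AlgebraicGeometry IsLocalRing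
open scoped TensorProduct

namespace Groth.Agent.H11Rig

theorem CPI.of_arrow_iso {Z X Z' X' : Scheme.{u}} {f : Z ⟶ X} {f' : Z' ⟶ X'} (eZ : Z ≅ Z') (eX : X ≅ X')
    (w : eZ.hom ≫ f' = f ≫ eX.hom) (h : CPI f) : CPI f' := by
  intro Y q hq hY
  haveI := hq
  haveI := hY
  haveI : IsIntegralHom (q ≫ eX.inv) := inferInstance
  haveI := h Y (q ≫ eX.inv) inferInstance hY
  let m : pullback (q ≫ eX.inv) f ⟶ pullback q f' :=
    pullback.map _ _ _ _ (𝟙 Y) eZ.hom eX.hom (by simp) w.symm
  haveI : IsIso m := inferInstance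
  exact m.surjective.connectedSpace m.continuous

theorem preconnectedSpace_specLocal (A : Type u) [CommRing A] [IsLocalRing A] :
    PreconnectedSpace ↥(Spec (CommRingCat.of A)) := by
  refine ⟨isPreconnected_iff_subset_of_disjoint.2 fun U V hU hV hUV h => ?_⟩
  rcases hUV (Set.mem_univ (IsLocalRing.closedPoint A)) with hc | hc
  · exact Or.inl fun x _ => (IsLocalRing.specializes_closedPoint x).mem_open hU hc
  · exact Or.inr fun x _ => (IsLocalRing.specializes_closedPoint x).mem_open hV hc

/-- A power of every element of an integral extension of a strictly henselian ring is congruent to a scalar. -/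
theorem exists_pow_sub_mem {R : Type u} [CommRing R] [IsLocalRing R] [IsSepClosed (ResidueField R)]
    {D : Type u} [CommRing D] [Algebra R D] [Algebra.IsIntegral R D] (M : Ideal D) [M.IsMaximal]
    (hM : M.comap (algebraMap R D) = maximalIdeal R) (p : ℕ) [ExpChar (ResidueField R) p] (d : D) :
    ∃ (n : ℕ) (r : R), d ^ p ^ n - algebraMap R D r ∈ M := by
  letI : Field (D ⧸ M) := Ideal.Quotient.field M
  let i : ResidueField R →+* D ⧸ M := Ideal.quotientMap M (algebraMap R D) hM.ge
  letI : Algebra (ResidueField R) (D ⧸ M) := i.toAlgebra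
  haveI : IsScalarTower R (ResidueField R) (D ⧸ M) := IsScalarTower.of_algebraMap_eq fun _ => rfl
  haveI : Algebra.IsIntegral R (D ⧸ M) :=
    Algebra.IsIntegral.of_surjective (Ideal.Quotient.mkₐ R M) Ideal.Quotient.mk_surjective
  haveI : Algebra.IsIntegral (ResidueField R) (D ⧸ M) := Algebra.IsIntegral.tower_top (R := R)
  haveI : Algebra.IsAlgebraic (ResidueField R) (D ⧸ M) := Algebra.IsIntegral.isAlgebraic
  haveI : IsPurelyInseparable (ResidueField R) (D ⧸ M) := inferInstance
  obtain ⟨n, c, hc⟩ := IsPurelyInseparable.pow_mem (F := ResidueField R) p (Ideal.Quotient.mk M d)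
  obtain ⟨r, rfl⟩ := residue_surjective c
  refine ⟨n, r, Ideal.Quotient.eq.1 ?_⟩
  rw [map_pow, ← hc]
  rfl

/-- Over a strictly henselian ring, the tensor product of a local integral algebra and a local algebra is local. -/
theorem isLocalRing_tensor {R R' D : Type u} [CommRing R] [IsLocalRing R] [IsSepClosed (ResidueField R)]
    [CommRing R'] [IsLocalRing R'] [Algebra R R'] [IsLocalHom (algebraMap R R')] [CommRing D] [Algebra R D]
    [Algebra.IsIntegral R D] [IsLocalRing D] [Nontrivial (D ⊗[R] R')] : IsLocalRing (D ⊗[R] R') := by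
  letI : Algebra R' (D ⊗[R] R') := Algebra.TensorProduct.rightAlgebra
  haveI : Algebra.IsIntegral R' (D ⊗[R] R') := by
    refine ⟨fun z => ?_⟩
    induction z using TensorProduct.induction_on with
    | zero => exact isIntegral_zero
    | add x y hx hy => exact hx.add hy
    | tmul d r =>
      have e : d ⊗ₜ[R] r = algebraMap R' (D ⊗[R] R') r * (d ⊗ₜ[R] (1 : R')) := by
        show _ = ((1 : D) ⊗ₜ[R] r) * _
        rw [Algebra.TensorProduct.tmul_mul_tmul, one_mul, mul_one]
      rw [e]
      refine isIntegral_algebraMap.mul ?_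
      obtain ⟨q, hqm, hq⟩ := Algebra.IsIntegral.isIntegral (R := R) d
      refine ⟨q.map (algebraMap R R'), hqm.map _, ?_⟩
      rw [Polynomial.eval₂_map]
      have e2 : (algebraMap R' (D ⊗[R] R')).comp (algebraMap R R') =
          (Algebra.TensorProduct.includeLeftRingHom : D →+* D ⊗[R] R').comp (algebraMap R D) := by
        ext a
        exact ((Algebra.TensorProduct.includeRight (R := R) (A := D) (B := R')).commutes a).trans
          ((Algebra.TensorProduct.includeLeft (R := R) (S := R) (A := D) (B := R')).commutes a).symm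
      rw [e2]
      exact (Polynomial.hom_eval₂ q (algebraMap R D) Algebra.TensorProduct.includeLeftRingHom d).symm.trans
        (by rw [hq, map_zero])
  obtain ⟨M₀, hM₀⟩ := Ideal.exists_maximal (D ⊗[R] R')
  refine IsLocalRing.of_unique_max_ideal ⟨M₀, hM₀, fun N hN => ?_⟩
  -- both maximal ideals lie over the closed points
  have hov : ∀ P : Ideal (D ⊗[R] R'), P.IsMaximal →
      (∀ d ∈ maximalIdeal D, d ⊗ₜ[R] (1 : R') ∈ P) ∧ (∀ r ∈ maximalIdeal R', (1 : D) ⊗ₜ[R] r ∈ P) := by
    intro P hP
    have h1 : P.comap (algebraMap R' (D ⊗[R] R')) = maximalIdeal R' :=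
      IsLocalRing.eq_maximalIdeal (Ideal.isMaximal_comap_of_isIntegral_of_isMaximal P)
    have h2 : (P.comap (Algebra.TensorProduct.includeLeftRingHom : D →+* D ⊗[R] R')).comap (algebraMap R D) =
        maximalIdeal R := by
      ext a
      rw [Ideal.mem_comap, Ideal.mem_comap,
        show (Algebra.TensorProduct.includeLeftRingHom : D →+* D ⊗[R] R') (algebraMap R D a) =
          algebraMap R' (D ⊗[R] R') (algebraMap R R' a) from
          ((Algebra.TensorProduct.includeLeft (R := R) (S := R) (A := D) (B := R')).commutes a).trans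
            ((Algebra.TensorProduct.includeRight (R := R) (A := D) (B := R')).commutes a).symm,
        ← Ideal.mem_comap, h1, mem_maximalIdeal, mem_maximalIdeal, map_mem_nonunits_iff]
    haveI : (P.comap (Algebra.TensorProduct.includeLeftRingHom : D →+* D ⊗[R] R')).IsMaximal :=
      Ideal.isMaximal_of_isIntegral_of_isMaximal_comap _ (h2 ▸ maximalIdeal.isMaximal R)
    have h3 := IsLocalRing.eq_maximalIdeal this
    refine ⟨fun d hd => ?_, fun r hr => ?_⟩
    · rw [← h3] at hd; exact hd
    · rw [← h1] at hr; exact hr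
  let J := M₀ ⊓ N
  have hD : ∀ d ∈ maximalIdeal D, d ⊗ₜ[R] (1 : R') ∈ J := fun d hd =>
    ⟨(hov M₀ hM₀).1 d hd, (hov N hN).1 d hd⟩
  let Q := (D ⊗[R] R') ⧸ J
  haveI : Nontrivial Q := Ideal.Quotient.nontrivial_iff.2 fun e =>
    hM₀.ne_top (top_le_iff.1 (e ▸ inf_le_left))
  let ι : R →+* Q := (Ideal.Quotient.mk J).comp (algebraMap R (D ⊗[R] R'))
  have hι : ∀ a ∈ maximalIdeal R, ι a = 0 := fun a ha => by
    refine Ideal.Quotient.eq_zero_iff_mem.2 ?_
    rw [show algebraMap R (D ⊗[R] R') a = (1 : D) ⊗ₜ[R] algebraMap R R' a from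
      ((Algebra.TensorProduct.includeRight (R := R) (A := D) (B := R')).commutes a).symm]
    have ha' : algebraMap R R' a ∈ maximalIdeal R' := map_mem_nonunits_iff _ _ |>.2 ha
    exact ⟨(hov M₀ hM₀).2 _ ha', (hov N hN).2 _ ha'⟩
  let κ : ResidueField R →+* Q := Ideal.Quotient.lift _ ι hι
  haveI : ExpChar Q (ringExpChar (ResidueField R)) := expChar_of_injective_ringHom κ.injective _
  let p := ringExpChar (ResidueField R)
  have hM : (maximalIdeal D).comap (algebraMap R D) = maximalIdeal R :=
    IsLocalRing.eq_maximalIdeal (Ideal.isMaximal_comap_of_isIntegral_of_isMaximal _)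
  let g : R' →+* Q := (Ideal.Quotient.mk J).comp (algebraMap R' (D ⊗[R] R'))
  have key : ∀ z : D ⊗[R] R', ∃ (n : ℕ) (r : R'), Ideal.Quotient.mk J z ^ p ^ n = g r := by
    intro z
    induction z using TensorProduct.induction_on with
    | zero => exact ⟨0, 0, by simp⟩
    | tmul d r =>
      obtain ⟨n, a, ha⟩ := exists_pow_sub_mem (maximalIdeal D) hM p d
      refine ⟨n, algebraMap R R' a * r ^ p ^ n, ?_⟩
      refine (map_pow (Ideal.Quotient.mk J) _ _).symm.trans (Ideal.Quotient.eq.2 ?_)
      rw [Algebra.TensorProduct.tmul_pow]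
      have e : (d ^ p ^ n) ⊗ₜ[R] (r ^ p ^ n) - algebraMap R' (D ⊗[R] R') (algebraMap R R' a * r ^ p ^ n) =
          ((d ^ p ^ n - algebraMap R D a) ⊗ₜ[R] (1 : R')) * ((1 : D) ⊗ₜ[R] (r ^ p ^ n)) := by
        show _ - ((1 : D) ⊗ₜ[R] (algebraMap R R' a * r ^ p ^ n)) = _
        rw [Algebra.TensorProduct.tmul_mul_tmul, mul_one, one_mul, TensorProduct.sub_tmul,
          ← Algebra.smul_def, Algebra.algebraMap_eq_smul_one, TensorProduct.smul_tmul]
      rw [e]
      exact J.mul_mem_right _ (hD _ ha)
    | add x y hx hy =>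
      obtain ⟨n, r, hr⟩ := hx
      obtain ⟨m, s, hs⟩ := hy
      refine ⟨n + m, r ^ p ^ m + s ^ p ^ n, ?_⟩
      rw [map_add, add_pow_expChar_pow, map_add, map_pow, map_pow, ← hr, ← hs, ← pow_mul, ← pow_mul,
        ← pow_add, ← pow_add, add_comm m n]
  refine (hM₀.eq_of_le hN.ne_top fun z hz => ?_).symm
  obtain ⟨n, r, hr⟩ := key z
  rw [← map_pow] at hr
  have hJ : z ^ p ^ n - algebraMap R' (D ⊗[R] R') r ∈ J := Ideal.Quotient.eq.1 hr
  have hpos : 0 < p ^ n := pow_pos (expChar_pos (ResidueField R) p) n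
  have h0 : algebraMap R' (D ⊗[R] R') r ∈ M₀ := by
    have := M₀.sub_mem (M₀.pow_mem_of_mem hz _ hpos) hJ.1
    simpa using this
  have h1 : M₀.comap (algebraMap R' (D ⊗[R] R')) = maximalIdeal R' :=
    IsLocalRing.eq_maximalIdeal (Ideal.isMaximal_comap_of_isIntegral_of_isMaximal M₀)
  have hrm : r ∈ maximalIdeal R' := h1 ▸ Ideal.mem_comap.2 h0
  refine hN.isPrime.mem_of_pow_mem (p ^ n) ?_
  have h3 : algebraMap R' (D ⊗[R] R') r ∈ N := (hov N hN).2 r hrm
  simpa using N.add_mem hJ.2 h3

/-- A local homomorphism out of a strictly henselian ring has connected preimages. -/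
theorem cpi_specMap_of_isLocalHom {R R' : Type u} [CommRing R] [CommRing R'] [HenselianLocalRing R]
    [IsSepClosed (ResidueField R)] [IsLocalRing R'] (ψ : R →+* R') [IsLocalHom ψ] :
    CPI (Spec.map (CommRingCat.ofHom ψ)) := by
  intro Y q hq hY
  haveI := hq
  haveI := hY
  letI : Algebra R R' := ψ.toAlgebra
  haveI : IsLocalHom (algebraMap R R') := ‹IsLocalHom ψ›
  haveI : IsAffine Y := isAffine_of_isAffineHom q
  let α : CommRingCat.of R ⟶ Γ(Y, ⊤) := Spec.preimage (Y.isoSpec.inv ≫ q)
  have hα : Spec.map α = Y.isoSpec.inv ≫ q := Spec.map_preimage _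
  let D : Type u := Γ(Y, ⊤)
  letI : Algebra R D := α.hom.toAlgebra
  haveI : IsIntegralHom (Spec.map α) := by rw [hα]; infer_instance
  haveI : Algebra.IsIntegral R D := algebraMap_isIntegral_iff.1 (IsIntegralHom.SpecMap_iff.1 ‹_›)
  haveI : IrreducibleSpace (PrimeSpectrum D) := by
    have h := (irreducibleSpace_def Y).1 hY
    have h2 := h.image Y.isoSpec.hom Y.isoSpec.hom.continuous.continuousOn
    rw [Set.top_eq_univ, Set.image_univ, Y.isoSpec.hom.surjective.range_eq] at h2
    exact (irreducibleSpace_def _).2 h2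
  -- the ring of the source is local
  haveI hprime : (nilradical D).IsPrime := PrimeSpectrum.irreducibleSpace_iff_isPrime_nilradical.1 inferInstance
  haveI : IsLocalRing D := by
    haveI : IsDomain (D ⧸ nilradical D) := Ideal.Quotient.isDomain _
    haveI : Algebra.IsIntegral R (D ⧸ nilradical D) :=
      Algebra.IsIntegral.of_surjective (Ideal.Quotient.mkₐ R _) Ideal.Quotient.mk_surjective
    haveI := H06GRConn.isLocalRing_of_isIntegral (A := R) (D ⧸ nilradical D)
    haveI := Ideal.comap_isMaximal_of_surjective (Ideal.Quotient.mk (nilradical D))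
      Ideal.Quotient.mk_surjective (K := maximalIdeal (D ⧸ nilradical D))
    refine IsLocalRing.of_unique_max_ideal
      ⟨(maximalIdeal (D ⧸ nilradical D)).comap (Ideal.Quotient.mk _), this, fun N hN => ?_⟩
    refine hN.eq_of_le (Ideal.IsMaximal.ne_top this) fun x hx => ?_
    by_contra hc
    obtain ⟨y, hy⟩ := isUnit_iff_exists_inv.1 (not_not.1 (mt (mem_maximalIdeal _).2 hc))
    obtain ⟨d, rfl⟩ := Ideal.Quotient.mk_surjective y
    rw [← map_mul, ← map_one (Ideal.Quotient.mk (nilradical D)), Ideal.Quotient.eq] at hy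
    have hle : nilradical D ≤ N := nilradical_le_prime N
    exact hN.ne_top ((Ideal.eq_top_iff_one N).2 (by simpa using N.sub_mem (N.mul_mem_right d hx) (hle hy)))
  have hM : (maximalIdeal D).comap (algebraMap R D) = maximalIdeal R :=
    IsLocalRing.eq_maximalIdeal (Ideal.isMaximal_comap_of_isIntegral_of_isMaximal _)
  have hM' : (maximalIdeal R').comap (algebraMap R R') = maximalIdeal R := by
    ext a
    rw [Ideal.mem_comap, mem_maximalIdeal, mem_maximalIdeal, map_mem_nonunits_iff]
  let e : pullback (Spec.map α) (Spec.map (CommRingCat.ofHom ψ)) ≅ Spec (CommRingCat.of (D ⊗[R] R')) :=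
    pullbackSpecIso R D R'
  haveI : Nontrivial (D ⊗[R] R') := by
    obtain ⟨w, -, -⟩ := Scheme.Pullback.exists_preimage_pullback (f := Spec.map α)
      (g := Spec.map (CommRingCat.ofHom ψ)) (IsLocalRing.closedPoint D) (IsLocalRing.closedPoint R')
      (PrimeSpectrum.ext (hM.trans hM'.symm))
    exact PrimeSpectrum.nonempty_iff_nontrivial.1 ⟨e.hom w⟩
  haveI := isLocalRing_tensor (R := R) (R' := R') (D := D)
  haveI := preconnectedSpace_specLocal (D ⊗[R] R')
  haveI : ConnectedSpace ↥(Spec (CommRingCat.of (D ⊗[R] R'))) :=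
    { toNonempty := ⟨IsLocalRing.closedPoint (D ⊗[R] R')⟩ }
  haveI : ConnectedSpace ↥(pullback (Spec.map α) (Spec.map (CommRingCat.ofHom ψ))) :=
    e.inv.surjective.connectedSpace e.inv.continuous
  let m : pullback (Spec.map α) (Spec.map (CommRingCat.ofHom ψ)) ⟶ pullback q (Spec.map (CommRingCat.ofHom ψ)) :=
    pullback.map _ _ _ _ Y.isoSpec.inv (𝟙 _) (𝟙 _) (by rw [Category.comp_id, hα]) (by simp)
  exact m.surjective.connectedSpace m.continuous

end Groth.Agent.H11Rig
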