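import Groth.Agent.H11Rig.Spread
import Mathlib.RingTheory.Ideal.MinimalPrime.Basic

/-!
# Rigidity of clopen subsets
-/

set_option autoImplicit false
set_option linter.style.haveILetI false
universe u

namespace Groth.Agent.H11Rig

variable {A B : Type u} [CommRing A] [CommRing B]

theorem exists_specializes_basicOpen {f : A} {y : PrimeSpectrum A}
    (hy : y ∈ closure (PrimeSpectrum.basicOpen f : Set (PrimeSpectrum A))) :
    ∃ p : PrimeSpectrum A, f ∉ p.asIdeal ∧ p.asIdeal ≤ y.asIdeal := by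
  rw [← PrimeSpectrum.localization_away_comap_range (Localization.Away f) f,
    PrimeSpectrum.closure_range_comap, PrimeSpectrum.mem_zeroLocus] at hy
  obtain ⟨q, hq, hqy⟩ := Ideal.exists_minimalPrimes_le (show RingHom.ker (algebraMap A (Localization.Away f)) ≤ y.asIdeal from hy)
  obtain ⟨Q, hQ, hQq⟩ := Ideal.exists_comap_eq_of_mem_minimalPrimes (algebraMap A (Localization.Away f))
    (I := ⊥) q hq
  refine ⟨PrimeSpectrum.comap (algebraMap A (Localization.Away f)) ⟨Q, hQ⟩, ?_, ?_⟩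
  · have : PrimeSpectrum.comap (algebraMap A (Localization.Away f)) ⟨Q, hQ⟩ ∈
        Set.range (PrimeSpectrum.comap (algebraMap A (Localization.Away f))) := ⟨_, rfl⟩
    rw [PrimeSpectrum.localization_away_comap_range (Localization.Away f) f] at this
    exact this
  · rw [PrimeSpectrum.comap_asIdeal, hQq.2]
    exact hqy

theorem exists_specializes_of_isCompact {V : Set (PrimeSpectrum A)} (hc : IsCompact V) (ho : IsOpen V)
    {y : PrimeSpectrum A} (hy : y ∈ closure V) : ∃ p ∈ V, p.asIdeal ≤ y.asIdeal := by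
  obtain ⟨t, ht⟩ := PrimeSpectrum.isCompact_isOpen_iff.1 ⟨hc, ho⟩
  have hV : V = ⋃ f ∈ t, (PrimeSpectrum.basicOpen f : Set (PrimeSpectrum A)) := by
    rw [← ht]; ext p; simp [PrimeSpectrum.mem_zeroLocus, Set.not_subset]
  rw [hV, t.closure_biUnion] at hy
  simp only [Set.mem_iUnion] at hy
  obtain ⟨f, hf, hyf⟩ := hy
  obtain ⟨p, hp, hpy⟩ := exists_specializes_basicOpen hyf
  exact ⟨p, by rw [hV]; simp only [Set.mem_iUnion]; exact ⟨f, hf, hp⟩, hpy⟩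

/-- The complement of `V(I)` is compact. -/
theorem isCompact_D {I : Ideal A} (hI : I.FG) : IsCompact {p : PrimeSpectrum A | ¬ I ≤ p.asIdeal} := by
  obtain ⟨s, hs⟩ := hI
  refine (PrimeSpectrum.isCompact_isOpen_iff.2 ⟨s, ?_⟩).1
  ext p
  subst hs
  simp [PrimeSpectrum.mem_zeroLocus, Ideal.span_le]

variable {φ : A →+* B} {I : Ideal A}

/-- The canonical lift of a point of `V(I)`. -/
noncomputable def liftV (h : Trunc φ I) (y : {p : PrimeSpectrum A // I ≤ p.asIdeal}) : PrimeSpectrum B :=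
  h.above ⟨y.1.asIdeal.map (Ideal.Quotient.mk I),
    Ideal.map_isPrime_of_surjective Ideal.Quotient.mk_surjective (by rw [Ideal.mk_ker]; exact y.2)⟩

theorem le_liftV (h : Trunc φ I) (y : {p : PrimeSpectrum A // I ≤ p.asIdeal}) : I.map φ ≤ (liftV h y).asIdeal :=
  h.le_above _

theorem comap_liftV (h : Trunc φ I) (y : {p : PrimeSpectrum A // I ≤ p.asIdeal}) :
    PrimeSpectrum.comap φ (liftV h y) = y.1 := by
  rw [liftV, h.comap_above]
  ext a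
  rw [PrimeSpectrum.comap_asIdeal, Ideal.comap_map_of_surjective' _ Ideal.Quotient.mk_surjective, Ideal.mk_ker,
    sup_eq_left.2 y.2]

theorem continuous_liftV (h : Trunc φ I) : Continuous (liftV h) := by
  rw [PrimeSpectrum.isTopologicalBasis_basic_opens.continuous_iff]
  rintro _ ⟨b, rfl⟩
  obtain ⟨a, ha⟩ := h.exists_sub_mem b
  have : liftV h ⁻¹' (PrimeSpectrum.basicOpen b : Set _) =
      Subtype.val ⁻¹' (PrimeSpectrum.basicOpen a : Set (PrimeSpectrum A)) := by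
    ext y
    change b ∉ (liftV h y).asIdeal ↔ a ∉ y.1.asIdeal
    rw [h.mem_iff_of_le (le_liftV h y) ha, ← comap_liftV h y]
    rfl
  rw [this]
  exact (PrimeSpectrum.basicOpen a).isOpen.preimage continuous_subtype_val

theorem liftV_comap (h : Trunc φ I) {P : PrimeSpectrum B} (hP : I.map φ ≤ P.asIdeal) :
    liftV h ⟨PrimeSpectrum.comap φ P, Ideal.map_le_iff_le_comap.1 hP⟩ = P :=
  h.unique_over (le_liftV h _) hP (comap_liftV h _)

variable [HenselianRing A I] {U : Set (PrimeSpectrum A)}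

theorem clopen_inj (h : Trunc φ I) (hI : I.FG) (hUI : {p : PrimeSpectrum A | ¬ I ≤ p.asIdeal} ⊆ U) {V₁ V₂ : Set U}
    (h₁ : IsClopen V₁) (h₂ : IsClopen V₂)
    (he : U.restrictPreimage (PrimeSpectrum.comap φ) ⁻¹' V₁ = U.restrictPreimage (PrimeSpectrum.comap φ) ⁻¹' V₂) :
    V₁ = V₂ := by
  ext ⟨p, hp⟩
  by_cases hpI : I ≤ p.asIdeal
  · have hy := comap_liftV h ⟨p, hpI⟩
    have := Set.ext_iff.1 he ⟨liftV h ⟨p, hpI⟩, by rw [Set.mem_preimage, hy]; exact hp⟩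
    simp only [Set.mem_preimage] at this
    rwa [show U.restrictPreimage (PrimeSpectrum.comap φ) ⟨liftV h ⟨p, hpI⟩, _⟩ = ⟨p, hp⟩ from Subtype.ext hy] at this
  · obtain ⟨m, hm, hpm⟩ := Ideal.exists_le_maximal p.asIdeal p.isPrime.ne_top
    have hIm : I ≤ m := (HenselianRing.jac (I := I)).trans (sInf_le ⟨bot_le, hm⟩)
    obtain ⟨P, M, -, hpP, hPI, -, -⟩ := h.exists_lift hI p ⟨m, hm.isPrime⟩ hpm hpI hIm
    have hs : (⟨p, hp⟩ : U) ⤳ ⟨PrimeSpectrum.comap φ P, hUI hPI⟩ :=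
      (subtype_specializes_iff _ _).2 ((PrimeSpectrum.le_iff_specializes _ _).1 hpP)
    have := Set.ext_iff.1 he ⟨P, hUI hPI⟩
    simp only [Set.mem_preimage] at this
    constructor <;> intro hV
    · exact hs.mem_open h₂.2 (this.1 (hs.mem_closed h₁.1 hV))
    · exact hs.mem_open h₁.2 (this.2 (hs.mem_closed h₂.1 hV))

omit [HenselianRing A I] in
theorem closed_glue (h : Trunc φ I) (hI : I.FG) (hUI : {p : PrimeSpectrum A | ¬ I ≤ p.asIdeal} ⊆ U)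
    {S : Set ↥(PrimeSpectrum.comap φ ⁻¹' U)} (hS : IsClosed S) {V : Set (PrimeSpectrum A)}
    (hVD : V ⊆ {p | ¬ I ≤ p.asIdeal}) (hV : IsOpen V) (hV' : IsOpen {p | ¬ I ≤ p.asIdeal ∧ p ∉ V})
    (hVS : ∀ (P : PrimeSpectrum B) (hP : ¬ I ≤ (PrimeSpectrum.comap φ P).asIdeal),
      PrimeSpectrum.comap φ P ∈ V ↔ (⟨P, hUI hP⟩ : ↥(PrimeSpectrum.comap φ ⁻¹' U)) ∈ S) :
    IsClosed {y : U | (¬ I ≤ y.1.asIdeal ∧ y.1 ∈ V) ∨
      ∃ hy : I ≤ y.1.asIdeal, (⟨liftV h ⟨y.1, hy⟩, by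
        rw [Set.mem_preimage, comap_liftV]; exact y.2⟩ : ↥(PrimeSpectrum.comap φ ⁻¹' U)) ∈ S} := by
  classical
  -- the part over `V(I)`
  let Z : Set U := {y | I ≤ y.1.asIdeal}
  have hZ : IsClosed Z := (PrimeSpectrum.isClosed_zeroLocus (I : Set A)).preimage continuous_subtype_val
  let g : Z → ↥(PrimeSpectrum.comap φ ⁻¹' U) := fun z =>
    ⟨liftV h ⟨z.1.1, z.2⟩, by rw [Set.mem_preimage, comap_liftV]; exact z.1.2⟩
  have hg : Continuous g :=
    ((continuous_liftV h).comp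
      ((continuous_subtype_val.comp continuous_subtype_val).subtype_mk (fun z : Z => z.2))).subtype_mk _
  have h2 : IsClosed (Subtype.val '' (g ⁻¹' S)) := hZ.isClosedMap_subtype_val _ (hS.preimage hg)
  -- the part inside `D(I)`
  have hVc : IsCompact V := by
    have : V = {p : PrimeSpectrum A | ¬ I ≤ p.asIdeal} ∩ {p | ¬ I ≤ p.asIdeal ∧ p ∉ V}ᶜ := by
      ext p
      refine ⟨fun hp => ⟨hVD hp, fun hp' => hp'.2 hp⟩, fun ⟨hp, hp'⟩ => by_contra fun hc => hp' ⟨hp, hc⟩⟩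
    rw [this]
    exact (isCompact_D hI).inter_right hV'.isClosed_compl
  have h1 : ∀ y : U, y.1 ∈ closure V → (¬ I ≤ y.1.asIdeal ∧ y.1 ∈ V) ∨ y ∈ Subtype.val '' (g ⁻¹' S) := by
    intro y hy
    obtain ⟨p, hp, hpy⟩ := exists_specializes_of_isCompact hVc hV hy
    by_cases hyI : I ≤ y.1.asIdeal
    · right
      refine ⟨⟨y, hyI⟩, ?_, rfl⟩
      obtain ⟨P, M, hPM, hpP, hPI, hIM, hM⟩ := h.exists_lift hI p y.1 hpy (hVD hp) hyI
      have hPS : (⟨P, hUI hPI⟩ : ↥(PrimeSpectrum.comap φ ⁻¹' U)) ∈ S := (hVS P hPI).1 (by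
        by_contra hc
        exact (((PrimeSpectrum.le_iff_specializes p (PrimeSpectrum.comap φ P)).1 hpP).mem_open hV'
          ⟨hPI, hc⟩).2 hp)
      have hs : (⟨P, hUI hPI⟩ : ↥(PrimeSpectrum.comap φ ⁻¹' U)) ⤳ g ⟨y, hyI⟩ := by
        rw [subtype_specializes_iff]
        have : (g ⟨y, hyI⟩).1 = M := h.unique_over (le_liftV h _) hIM ((comap_liftV h _).trans hM.symm)
        rw [this]
        exact (PrimeSpectrum.le_iff_specializes _ _).1 hPM
      exact hs.mem_closed hS hPS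
    · left
      refine ⟨hyI, by_contra fun hc => ?_⟩
      exact (((PrimeSpectrum.le_iff_specializes p y.1).1 hpy).mem_open hV' ⟨hyI, hc⟩).2 hp
  have e : {y : U | (¬ I ≤ y.1.asIdeal ∧ y.1 ∈ V) ∨
      ∃ hy : I ≤ y.1.asIdeal, (⟨liftV h ⟨y.1, hy⟩, by
        rw [Set.mem_preimage, comap_liftV]; exact y.2⟩ : ↥(PrimeSpectrum.comap φ ⁻¹' U)) ∈ S} =
      Subtype.val ⁻¹' closure V ∪ Subtype.val '' (g ⁻¹' S) := by
    ext y
    constructor
    · rintro (⟨-, hy⟩ | ⟨hy, hy'⟩)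
      exacts [Or.inl (subset_closure hy), Or.inr ⟨⟨y, hy⟩, hy', rfl⟩]
    · rintro (hy | hy)
      · rcases h1 y hy with h3 | ⟨z, hz, rfl⟩
        exacts [Or.inl h3, Or.inr ⟨z.2, hz⟩]
      · obtain ⟨z, hz, rfl⟩ := hy
        exact Or.inr ⟨z.2, hz⟩
  rw [e]
  exact (isClosed_closure.preimage continuous_subtype_val).union h2

theorem clopen_surj (h : Trunc φ I) (hI : I.FG) (hU : IsOpen U) (hUI : {p : PrimeSpectrum A | ¬ I ≤ p.asIdeal} ⊆ U)
    {S : Set ↥(PrimeSpectrum.comap φ ⁻¹' U)} (hS : IsClopen S) :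
    ∃ T : Set U, IsClopen T ∧ U.restrictPreimage (PrimeSpectrum.comap φ) ⁻¹' T = S := by
  classical
  have hW : IsOpen (PrimeSpectrum.comap φ ⁻¹' U) := hU.preimage (PrimeSpectrum.continuous_comap φ)
  have hD : IsOpen {P : PrimeSpectrum B | ¬ I.map φ ≤ P.asIdeal} :=
    (PrimeSpectrum.isClosed_zeroLocus ((I.map φ : Ideal B) : Set B)).isOpen_compl
  have mem : ∀ {P : PrimeSpectrum B}, ¬ I.map φ ≤ P.asIdeal → P ∈ PrimeSpectrum.comap φ ⁻¹' U :=
    fun hP => hUI fun hle => hP (Ideal.map_le_iff_le_comap.2 hle)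
  have h1 : IsOpen (Subtype.val '' S) := hW.isOpenMap_subtype_val _ hS.2
  have h1' : IsOpen {P | ¬ I.map φ ≤ P.asIdeal ∧ P ∉ Subtype.val '' S} := by
    have e : {P | ¬ I.map φ ≤ P.asIdeal ∧ P ∉ Subtype.val '' S} =
        {P | ¬ I.map φ ≤ P.asIdeal} ∩ Subtype.val '' Sᶜ := by
      ext P
      constructor
      · rintro ⟨hP, hPS⟩
        exact ⟨hP, ⟨P, mem hP⟩, fun hin => hPS ⟨_, hin, rfl⟩, rfl⟩
      · rintro ⟨hP, ⟨P', hP', rfl⟩⟩
        exact ⟨hP, fun ⟨Q, hQ, e⟩ => hP' (Subtype.ext e ▸ hQ)⟩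
    rw [e]
    exact hD.inter (hW.isOpenMap_subtype_val _ hS.1.isOpen_compl)
  obtain ⟨V, hVD, hV, hV', hVS₀⟩ := exists_clopen_D h hI h1 h1'
  have hVS : ∀ (P : PrimeSpectrum B) (hP : ¬ I ≤ (PrimeSpectrum.comap φ P).asIdeal),
      PrimeSpectrum.comap φ P ∈ V ↔ (⟨P, hUI hP⟩ : ↥(PrimeSpectrum.comap φ ⁻¹' U)) ∈ S := fun P hP => by
    rw [hVS₀ P fun hle => hP (Ideal.map_le_iff_le_comap.1 hle)]
    exact ⟨fun ⟨Q, hQ, e⟩ => (Subtype.ext e : Q = ⟨P, hUI hP⟩) ▸ hQ, fun hin => ⟨_, hin, rfl⟩⟩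
  let T : Set U := {y | (¬ I ≤ y.1.asIdeal ∧ y.1 ∈ V) ∨
      ∃ hy : I ≤ y.1.asIdeal, (⟨liftV h ⟨y.1, hy⟩, by
        rw [Set.mem_preimage, comap_liftV]; exact y.2⟩ : ↥(PrimeSpectrum.comap φ ⁻¹' U)) ∈ S}
  have hT := closed_glue h hI hUI hS.1 hVD hV hV' hVS
  have hV'' : IsOpen {p | ¬ I ≤ p.asIdeal ∧ p ∉ {p | ¬ I ≤ p.asIdeal ∧ p ∉ V}} := by
    convert hV using 1
    ext p
    exact ⟨fun ⟨hp, hp'⟩ => by_contra fun hc => hp' ⟨hp, hc⟩, fun hp => ⟨hVD hp, fun hp' => hp'.2 hp⟩⟩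
  have hTc := closed_glue h hI hUI (S := Sᶜ) hS.compl.1 (V := {p | ¬ I ≤ p.asIdeal ∧ p ∉ V}) (fun p hp => hp.1)
    hV' hV'' fun P hP => ⟨fun hp hin => hp.2 ((hVS P hP).2 hin), fun hin => ⟨hP, fun hp => hin ((hVS P hP).1 hp)⟩⟩
  refine ⟨T, ⟨hT, ?_⟩, ?_⟩
  · rw [← isClosed_compl_iff]
    convert hTc using 1
    ext y
    simp only [T, Set.mem_compl_iff, Set.mem_ofPred_eq]
    by_cases hy : I ≤ y.1.asIdeal
    · simp [hy]
    · simp [hy]
  · ext ⟨P, hP⟩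
    simp only [T, Set.mem_preimage, Set.mem_ofPred_eq, Set.restrictPreimage_coe]
    by_cases hPI : I ≤ (PrimeSpectrum.comap φ P).asIdeal
    · have e := liftV_comap h (Ideal.map_le_iff_le_comap.2 hPI : I.map φ ≤ P.asIdeal)
      have e' : ∀ hmem, (⟨liftV h ⟨PrimeSpectrum.comap φ P, hPI⟩, hmem⟩ : ↥(PrimeSpectrum.comap φ ⁻¹' U)) = ⟨P, hP⟩ :=
        fun _ => Subtype.ext e
      constructor
      · rintro (⟨h4, -⟩ | ⟨_, h4⟩)
        · exact absurd hPI h4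
        · rwa [e'] at h4
      · intro h4
        exact Or.inr ⟨hPI, by rwa [e']⟩
    · rw [← hVS P hPI]
      exact ⟨fun h3 => h3.elim (·.2) fun ⟨h4, _⟩ => absurd h4 hPI, fun h3 => Or.inl ⟨hPI, h3⟩⟩

/-- Gabber's rigidity for clopen subsets. -/
theorem clopen_bijective (h : Trunc φ I) (hI : I.FG) (hU : IsOpen U) (hUI : {p : PrimeSpectrum A | ¬ I ≤ p.asIdeal} ⊆ U)
    (F : {V : Set U // IsClopen V} → {S : Set ↥(PrimeSpectrum.comap φ ⁻¹' U) // IsClopen S})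
    (hF : ∀ V, (F V).1 = U.restrictPreimage (PrimeSpectrum.comap φ) ⁻¹' V.1) : Function.Bijective F := by
  refine ⟨fun V₁ V₂ e => Subtype.ext (clopen_inj h hI hUI V₁.2 V₂.2 (by rw [← hF, ← hF, e])), fun S => ?_⟩
  obtain ⟨T, hT, e⟩ := clopen_surj h hI hU hUI S.2
  exact ⟨⟨T, hT⟩, Subtype.ext ((hF _).trans e)⟩

end Groth.Agent.H11Rig
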