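import Groth.Prelude.Def_CohB1
import Groth.Agent.H11Proj.ProjSpace

/-!
# Points of projective space given by coordinates in a domain
-/

set_option autoImplicit false
universe u

namespace Groth.Agent.H11Rig

open CategoryTheory AlgebraicGeometry MvPolynomial CohB1

variable {A : Type u} [CommRing A] {N : ℕ}

/-- The contraction to `A` of a point of projective space is the image of the point in `Spec A`. -/
theorem mem_toSpec_iff (x : Proj (polyGrading N A)) (a : A) :
    a ∈ ((CohB1.ProjSpace.toSpec N A).base x).asIdeal ↔ (C a : MvPolynomial (Fin (N + 1)) A) ∈ x.asHomogeneousIdeal := by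
  obtain ⟨i, hi⟩ := TopologicalSpace.Opens.mem_iSup.mp
    ((H11Proj.ProjSpace.iSup_basicOpen N A).ge (show x ∈ (⊤ : (Proj (polyGrading N A)).Opens) from trivial))
  have hX := H11Proj.ProjSpace.X_mem N A i
  have hg : (C a * X i : MvPolynomial (Fin (N + 1)) A) ∈ polyGrading N A 1 := by
    rw [← smul_eq_C_mul]; exact Submodule.smul_mem _ a hX
  obtain ⟨z, rfl⟩ : x ∈ Set.range (Proj.awayι (polyGrading N A) (X i) hX one_pos).base := by
    have := Proj.opensRange_awayι (polyGrading N A) (f := X i) hX one_pos
    rw [← this] at hi; exact hi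
  have key : Proj.awayι (polyGrading N A) (X i) hX one_pos ≫ CohB1.ProjSpace.toSpec N A =
      Spec.map (CommRingCat.ofHom ((HomogeneousLocalization.fromZeroRingHom (polyGrading N A) (Submonoid.powers (X i))).comp
        (algebraMap A (polyGrading N A 0)))) := by
    exact (Proj.awayι_toSpecZero_assoc _ _ _ _ _).trans (Spec.map_comp _ _).symm
  have h1 : (CohB1.ProjSpace.toSpec N A).base ((Proj.awayι (polyGrading N A) (X i) hX one_pos).base z) =
      PrimeSpectrum.comap ((HomogeneousLocalization.fromZeroRingHom (polyGrading N A) (Submonoid.powers (X i))).comp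
        (algebraMap A (polyGrading N A 0))) z := by
    exact congrArg (fun f : Spec (CommRingCat.of (HomogeneousLocalization.Away (polyGrading N A) (X i))) ⟶ _ => f.base z) key
  rw [h1, PrimeSpectrum.comap_asIdeal, Ideal.mem_comap]
  have h2 := congrArg (fun U : (Spec (CommRingCat.of (HomogeneousLocalization.Away (polyGrading N A) (X i)))).Opens => z ∈ U)
    (Proj.awayι_preimage_basicOpen (polyGrading N A) hX one_pos hg one_pos)
  simp only [eq_iff_iff] at h2
  have h3 : HomogeneousLocalization.Away.isLocalizationElem hX hg =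
      ((HomogeneousLocalization.fromZeroRingHom (polyGrading N A) (Submonoid.powers (X i))).comp
        (algebraMap A (polyGrading N A 0))) a := by
    apply HomogeneousLocalization.val_injective
    simp only [HomogeneousLocalization.Away.isLocalizationElem, RingHom.comp_apply]
    erw [HomogeneousLocalization.Away.val_mk]
    erw [Localization.mk_eq_mk_iff, Localization.r_iff_exists]
    exact ⟨1, by simp [MvPolynomial.algebraMap_eq]; ring⟩
  rw [h3] at h2
  have h4 : (Proj.awayι (polyGrading N A) (X i) hX one_pos).base z ∈ Proj.basicOpen (polyGrading N A) (C a * X i) ↔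
      ((HomogeneousLocalization.fromZeroRingHom (polyGrading N A) (Submonoid.powers (X i))).comp
        (algebraMap A (polyGrading N A 0))) a ∉ z.asIdeal := h2
  have hi' : (X i : MvPolynomial (Fin (N + 1)) A) ∉
      ((Proj.awayι (polyGrading N A) (X i) hX one_pos).base z).asHomogeneousIdeal.toIdeal := hi
  rw [Proj.mem_basicOpen] at h4
  rw [← not_iff_not]
  refine h4.symm.trans (not_congr ⟨fun h => ?_, fun h => ?_⟩)
  · exact (((Proj.awayι (polyGrading N A) (X i) hX one_pos).base z).isPrime.mem_or_mem h).resolve_right hi'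
  · exact Ideal.mul_mem_right _ _ h

/-- Evaluation of a homogeneous polynomial. -/
noncomputable def evalT {R : Type u} [CommRing R] (u : A →+* R) (w : Fin (N + 1) → R) :
    MvPolynomial (Fin (N + 1)) A →+* Polynomial R :=
  eval₂Hom (Polynomial.C.comp u) (fun l => Polynomial.C (w l) * Polynomial.X)

theorem evalT_homog {R : Type u} [CommRing R] (u : A →+* R) (w : Fin (N + 1) → R) {d : ℕ}
    {h : MvPolynomial (Fin (N + 1)) A} (hh : h ∈ polyGrading N A d) :
    evalT u w h = Polynomial.C (eval₂Hom u w h) * Polynomial.X ^ d := by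
  conv_lhs => rw [h.as_sum]
  conv_rhs => rw [h.as_sum]
  simp only [map_sum, Finset.sum_mul]
  refine Finset.sum_congr rfl fun s hs => ?_
  have hd : s.degree = d := by
    have := hh (mem_support_iff.1 hs)
    rw [Finsupp.degree_eq_weight_one]
    exact this
  rw [evalT, eval₂Hom_monomial, eval₂Hom_monomial, RingHom.comp_apply, map_mul, mul_assoc]
  congr 1
  rw [← hd]
  rw [Finsupp.prod, Finsupp.prod, map_prod, Finsupp.degree_apply]
  simp only [map_pow, mul_pow]
  rw [Finset.prod_mul_distrib, Finset.prod_pow_eq_pow_sum]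

theorem coeff_evalT {R : Type u} [CommRing R] (u : A →+* R) (w : Fin (N + 1) → R) (h : MvPolynomial (Fin (N + 1)) A)
    (d : ℕ) : (evalT u w h).coeff d = eval₂Hom u w (homogeneousComponent d h) := by
  classical
  have key : evalT u w h =
      ∑ i ∈ Finset.range (h.totalDegree + 1), Polynomial.C (eval₂Hom u w (homogeneousComponent i h)) * Polynomial.X ^ i := by
    conv_lhs => rw [← sum_homogeneousComponent h, map_sum]
    exact Finset.sum_congr rfl fun i _ => evalT_homog u w (homogeneousComponent_mem i h)
  rw [key, Polynomial.finsetSum_coeff]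
  simp only [Polynomial.coeff_C_mul_X_pow]
  rw [Finset.sum_ite_eq]
  split_ifs with hd
  · rfl
  · rw [homogeneousComponent_eq_zero _ _ (by simpa using hd), map_zero]

theorem evalT_isHomogeneous {R : Type u} [CommRing R] (u : A →+* R) (w : Fin (N + 1) → R) :
    (RingHom.ker (evalT u w)).IsHomogeneous (polyGrading N A) := by
  intro i h hh
  rw [RingHom.mem_ker] at hh ⊢
  have e : (DirectSum.decompose (polyGrading N A) h i : MvPolynomial (Fin (N + 1)) A) = homogeneousComponent i h :=
    MvPolynomial.decomposition.decompose'_apply h i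
  rw [e, evalT_homog u w (homogeneousComponent_mem i h), ← coeff_evalT, hh]
  simp

/-- The point with coordinates `w`. -/
noncomputable def pt {R : Type u} [CommRing R] [IsDomain R] (u : A →+* R) (w : Fin (N + 1) → R)
    (hw : ∃ l, w l ≠ 0) : ProjectiveSpectrum (polyGrading N A) :=
  ⟨⟨RingHom.ker (evalT u w), evalT_isHomogeneous u w⟩, RingHom.ker_isPrime _, fun h => by
    obtain ⟨l, hl⟩ := hw
    have := h (H11Proj.mem_irrelevant_of_pos (polyGrading N A) one_pos (H11Proj.ProjSpace.X_mem N A l))
    change evalT u w (X l) = 0 at this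
    simp [evalT, hl] at this⟩

variable {R : Type u} [CommRing R] [IsDomain R] {u : A →+* R} {w : Fin (N + 1) → R} {hw : ∃ l, w l ≠ 0}

theorem mem_pt_iff_forall {h : MvPolynomial (Fin (N + 1)) A} :
    h ∈ (pt u w hw).asHomogeneousIdeal ↔ ∀ d, eval₂Hom u w (homogeneousComponent d h) = 0 := by
  change evalT u w h = 0 ↔ _
  simp [Polynomial.ext_iff, coeff_evalT]

theorem mem_pt_iff {d : ℕ} {h : MvPolynomial (Fin (N + 1)) A} (hh : h ∈ polyGrading N A d) :
    h ∈ (pt u w hw).asHomogeneousIdeal ↔ eval₂Hom u w h = 0 := by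
  change evalT u w h = 0 ↔ _
  rw [evalT_homog u w hh, Polynomial.C_mul_X_pow_eq_monomial, Polynomial.monomial_eq_zero_iff]

theorem toSpec_pt (hw : ∃ l, w l ≠ 0) (a : A) :
    a ∈ ((CohB1.ProjSpace.toSpec N A).base (pt u w hw)).asIdeal ↔ u a = 0 := by
  rw [mem_toSpec_iff, mem_pt_iff (d := 0) (isHomogeneous_C _ a), eval₂Hom_C]

/-- A specialization between points given by coordinates. -/
theorem pt_specializes {R' : Type u} [CommRing R'] [IsDomain R'] {u' : A →+* R'} {w' : Fin (N + 1) → R'}
    {hw' : ∃ l, w' l ≠ 0}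
    (H : ∀ (d : ℕ) (h : MvPolynomial (Fin (N + 1)) A), h ∈ polyGrading N A d → eval₂Hom u w h = 0 →
      eval₂Hom u' w' h = 0) :
    pt u w hw ⤳ pt u' w' hw' := by
  rw [specializes_iff_mem_closure, ← ProjectiveSpectrum.le_iff_mem_closure]
  intro h hh
  exact mem_pt_iff_forall.2 fun d => H d _ (homogeneousComponent_mem d h) (mem_pt_iff_forall.1 hh d)

end Groth.Agent.H11Rig
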