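import Groth.Agent.H11Rig.Basic
import Groth.Agent.H18PBC.NbhdCat
import Groth.Agent.H12AlgSp.EtStrictHens
import Groth.Agent.H9Hens.BranchNormal
import Groth.Agent.H9Hens.PairOps

/-!
# Strictly henselian local rings of rings with the same truncations
-/

set_option autoImplicit false
set_option linter.style.haveILetI false
set_option linter.unusedSectionVars false
set_option backward.isDefEq.respectTransparency false
set_option backward.isDefEq.respectTransparency.types false
universe u

open CategoryTheory AlgebraicGeometry Opposite IsLocalRing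
open Groth.Agent.H18Et Groth.Agent.H12AlgSp

namespace Groth.Agent.H11Rig

theorem localMap {R S : Type*} [CommRing R] [CommRing S] [IsLocalRing R] [IsLocalRing S] (f : R →+* S)
    [IsLocalHom f] (r : R) (hr : r ∈ maximalIdeal R) : f r ∈ maximalIdeal S :=
  fun hu => hr (isUnit_of_map_unit f r hu)

variable {A : Type u} [CommRing A] {Ω : Type u} [Field Ω] [IsSepClosed Ω]
  (ξ : Spec (CommRingCat.of Ω) ⟶ Spec (CommRingCat.of A))

/-- The structure map of the strictly henselian local ring of an affine scheme. -/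
noncomputable def baseHom : A →+* EtBase.etaleLocalRing ξ :=
  (Spec.preimage (H18PBC.Nbhd.toBase ξ)).hom

theorem map_baseHom : Spec.map (CommRingCat.ofHom (baseHom ξ)) = H18PBC.Nbhd.toBase ξ :=
  Spec.map_preimage _

theorem baseHom_eq_stalkHom (a : A) : baseHom ξ a =
    EtStrictHens.stalkHom ξ (StructureSheaf.toStalk A (EtStrictHens.imagePt ξ) a) := by
  obtain ⟨i⟩ := (IsCofiltered.nonempty : Nonempty (H18PBC.Nbhd.NI ξ))
  let U := (H18PBC.Nbhd.nb ξ).obj i
  let z := H18PBC.Nbhd.zb ξ i
  have hW : (⊤ : U.left.Opens) ≤ U.hom ⁻¹ᵁ ⊤ := le_top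
  have e : CommRingCat.ofHom (baseHom ξ) =
      (Scheme.ΓSpecIso (CommRingCat.of A)).inv ≫ (H18PBC.Nbhd.toBase ξ).appTop ≫
        (Scheme.ΓSpecIso (EtBase.etaleLocalRing ξ)).hom := by
    rw [← map_baseHom, Scheme.ΓSpecIso_naturality, Iso.inv_hom_id_assoc]
  refine (ConcreteCategory.congr_hom e a).trans ?_
  rw [← H18PBC.Nbhd.toBase_eq ξ i, Scheme.Hom.comp_appTop, Category.assoc, H18PBC.Nbhd.cone_appTop]
  refine Eq.trans ?_ (EtStrictHens.stalkHom_germ ξ ⊤ trivial _).symm
  refine Eq.trans ?_ (EtStrictHens.funGerm_appLE ξ U z ⊤ trivial hW _)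
  show funGerm ξ U z (U.hom.appTop _) = _
  exact congrArg (funGerm ξ U z) (ConcreteCategory.congr_hom
    (show U.hom.appTop = U.hom.appLE ⊤ ⊤ hW from (Scheme.Hom.appLE_eq_app ..).symm) _)

noncomputable instance (x : Spec (CommRingCat.of A)) :
    Algebra A ↥((Spec (CommRingCat.of A)).presheaf.stalk x) :=
  StructureSheaf.stalkAlgebra A x

instance (x : Spec (CommRingCat.of A)) :
    IsLocalization.AtPrime ↥((Spec (CommRingCat.of A)).presheaf.stalk x) x.asIdeal :=
  StructureSheaf.IsLocalization.to_stalk A x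

theorem algebraMap_stalk (a : A) :
    algebraMap ↥((Spec (CommRingCat.of A)).presheaf.stalk (EtStrictHens.imagePt ξ))
      ↥(EtBase.etaleLocalRing ξ) (algebraMap A _ a) = baseHom ξ a :=
  (baseHom_eq_stalkHom ξ a).symm

theorem baseHom_mem_maximalIdeal_iff (a : A) :
    baseHom ξ a ∈ maximalIdeal ↥(EtBase.etaleLocalRing ξ) ↔ a ∈ (EtStrictHens.imagePt ξ).asIdeal := by
  rw [← algebraMap_stalk, mem_maximalIdeal, map_mem_nonunits_iff, ← mem_maximalIdeal,
    IsLocalization.AtPrime.to_map_mem_maximal_iff _ (EtStrictHens.imagePt ξ).asIdeal]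

/-- The universal property of the strictly henselian local ring, in terms of the ring of the base. -/
theorem existsUnique_lift (T : Type u) [CommRing T] [HenselianLocalRing T] (f : A →+* T)
    (τ : ResidueField ↥(EtBase.etaleLocalRing ξ) →+* ResidueField T)
    (hτ : ∀ a, residue T (f a) = τ (residue _ (baseHom ξ a))) :
    ∃! g : ↥(EtBase.etaleLocalRing ξ) →+* T, g.comp (baseHom ξ) = f ∧
      ∀ r, residue T (g r) = τ (residue _ r) := by
  let L : Type u := ↥((Spec (CommRingCat.of A)).presheaf.stalk (EtStrictHens.imagePt ξ))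
  let p := (EtStrictHens.imagePt ξ).asIdeal
  have hu : ∀ s : p.primeCompl, IsUnit (f s.1) := fun s => by
    rw [← residue_ne_zero_iff_isUnit, hτ, Ne, map_eq_zero, residue_eq_zero_iff,
      baseHom_mem_maximalIdeal_iff]
    exact s.2
  let f' : L →+* T := IsLocalization.lift (M := p.primeCompl) hu
  have hf' : ∀ a, f' (algebraMap A L a) = f a := fun a => IsLocalization.lift_eq hu a
  haveI : IsLocalHom f' := ⟨fun y hy => by
    obtain ⟨a, s, rfl⟩ := IsLocalization.exists_mk'_eq p.primeCompl y
    have h1 : f' (IsLocalization.mk' L a s) * f s.1 = f a := by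
      rw [← hf' s.1, ← map_mul, IsLocalization.mk'_spec, hf']
    have h2 : IsUnit (f a) := h1 ▸ hy.mul (hu s)
    rw [IsLocalization.AtPrime.isUnit_mk'_iff]
    rw [← residue_ne_zero_iff_isUnit, hτ, Ne, map_eq_zero, residue_eq_zero_iff,
      baseHom_mem_maximalIdeal_iff] at h2
    exact h2⟩
  have hτ' : τ.comp (ResidueField.map (algebraMap L ↥(EtBase.etaleLocalRing ξ))) =
      ResidueField.map f' := by
    refine RingHom.ext fun y => ?_
    obtain ⟨y, rfl⟩ := residue_surjective y
    refine RingHom.congr_fun (?_ : (τ.comp (residue _)).comp (algebraMap L _) = (residue T).comp f') y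
    refine IsLocalization.ringHom_ext p.primeCompl (RingHom.ext fun a => ?_)
    show τ (residue _ (algebraMap L _ (algebraMap A L a))) = residue T (f' (algebraMap A L a))
    rw [algebraMap_stalk, hf', hτ]
  obtain ⟨g, ⟨hg, hr⟩, huniq⟩ := EtStrictHens.universal ξ T f' τ hτ'
  refine ⟨g, ⟨RingHom.ext fun a => ?_, hr⟩, fun g' hg' => huniq g' ⟨?_, hg'.2⟩⟩
  · show g (baseHom ξ a) = f a
    rw [← algebraMap_stalk, ← hf']
    exact RingHom.congr_fun hg _
  · refine IsLocalization.ringHom_ext p.primeCompl (RingHom.ext fun a => ?_)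
    show g' (algebraMap L _ (algebraMap A L a)) = f' (algebraMap A L a)
    rw [algebraMap_stalk, hf']
    exact RingHom.congr_fun hg'.1 a

theorem isSeparable_stalk : Algebra.IsSeparable
    (ResidueField ↥((Spec (CommRingCat.of A)).presheaf.stalk (EtStrictHens.imagePt ξ)))
    (ResidueField ↥(EtBase.etaleLocalRing ξ)) :=
  (EtStrictHens.isSepClosure_residueField ξ).separable

section Pair

variable {B : Type u} [CommRing B] {φ : A →+* B} {I : Ideal A} (h : Trunc φ I)
  (η : Spec (CommRingCat.of Ω) ⟶ Spec (CommRingCat.of B))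
  (ψ : ↥(EtBase.etaleLocalRing ξ) →+* ↥(EtBase.etaleLocalRing η)) [IsLocalHom ψ]
  (hψ : ψ.comp (baseHom ξ) = (baseHom η).comp φ)
  (hx : I ≤ (EtStrictHens.imagePt ξ).asIdeal)

include hx in
theorem map_le_maximalIdeal : I.map (baseHom ξ) ≤ maximalIdeal ↥(EtBase.etaleLocalRing ξ) :=
  Ideal.map_le_iff_le_comap.2 fun a ha => (baseHom_mem_maximalIdeal_iff ξ a).2 (hx ha)

include hψ in
theorem map_pow_map (n : ℕ) : ((I ^ n).map (baseHom ξ)).map ψ = ((I ^ n).map φ).map (baseHom η) := by
  rw [Ideal.map_map, Ideal.map_map, hψ]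

include h hψ hx in
theorem residueMap_surjective : Function.Surjective (ResidueField.map ψ) := by
  intro x
  let ι := ResidueField.map ψ
  let k := ResidueField ↥(EtBase.etaleLocalRing ξ)
  haveI : IsSepClosed k := (isStrictlyHenselian_etaleLocalRing ξ).2
  let L : Type u := ↥((Spec (CommRingCat.of B)).presheaf.stalk (EtStrictHens.imagePt η))
  let p := (EtStrictHens.imagePt η).asIdeal
  haveI : Algebra.IsSeparable (ResidueField L) (ResidueField ↥(EtBase.etaleLocalRing η)) :=
    isSeparable_stalk η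
  let j := algebraMap (ResidueField L) (ResidueField ↥(EtBase.etaleLocalRing η))
  have hB : ∀ b, residue _ (baseHom η b) ∈ ι.fieldRange := fun b => by
    obtain ⟨a, ha⟩ := h.surj 1 b
    refine ⟨residue _ (baseHom ξ a), ?_⟩
    rw [ResidueField.map_residue, ← RingHom.comp_apply ψ, hψ, eq_comm, RingHom.comp_apply, ← sub_eq_zero,
      ← map_sub, ← map_sub, residue_eq_zero_iff]
    have h1 := Ideal.mem_map_of_mem (baseHom η) ha
    rw [← map_pow_map ξ η ψ hψ 1, pow_one] at h1
    refine Ideal.map_le_iff_le_comap.2 (fun r hr => ?_) h1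
    exact localMap ψ r (map_le_maximalIdeal ξ hx hr)
  have hj : ∀ c, j c ∈ ι.fieldRange := fun c => by
    obtain ⟨y, rfl⟩ := residue_surjective c
    obtain ⟨b, s, rfl⟩ := IsLocalization.exists_mk'_eq p.primeCompl y
    have e : j (residue _ (IsLocalization.mk' L b s)) * residue _ (baseHom η s.1) =
        residue _ (baseHom η b) := by
      rw [← algebraMap_stalk η, ← algebraMap_stalk η]
      show residue _ (algebraMap L _ (IsLocalization.mk' L b s)) * _ = _
      rw [← map_mul, ← map_mul, IsLocalization.mk'_spec]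
    have hs : residue _ (baseHom η s.1) ≠ 0 := by
      rw [Ne, residue_eq_zero_iff, baseHom_mem_maximalIdeal_iff]
      exact s.2
    rw [show j (residue _ (IsLocalization.mk' L b s)) = residue _ (baseHom η b) / residue _ (baseHom η s.1) from
      eq_div_of_mul_eq hs e]
    exact div_mem (hB b) (hB s.1)
  have hsep := Algebra.IsSeparable.isSeparable (ResidueField L) x
  let q := (minpoly (ResidueField L) x).map j
  have hq : q ∈ Polynomial.lifts ι := (Polynomial.lifts_iff_coeff_lifts _).2 fun n => by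
    rw [Polynomial.coeff_map]
    exact hj _
  obtain ⟨q₀, hq₀⟩ := hq
  replace hq₀ : q₀.map ι = q := hq₀
  have hs₀ : q₀.Separable := (Polynomial.separable_map ι).1 (hq₀ ▸ Polynomial.Separable.map hsep)
  have hroot : (q₀.map ι).eval x = 0 := by
    rw [hq₀, Polynomial.eval_map, ← Polynomial.aeval_def, minpoly.aeval]
  have hne : q₀.map ι ≠ 0 := by
    rw [hq₀]
    exact Polynomial.map_ne_zero (minpoly.ne_zero hsep.isIntegral)
  have := (IsSepClosed.splits_of_separable q₀ hs₀).roots_map ι
  have hx' : x ∈ (q₀.map ι).roots := (Polynomial.mem_roots hne).2 hroot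
  rw [this, Multiset.mem_map] at hx'
  obtain ⟨r, -, hr⟩ := hx'
  exact ⟨r, hr⟩

include h hψ hx in
/-- **The truncations of the strictly henselian local rings agree.** -/
theorem trunc_etaleLocalRing : Trunc ψ (I.map (baseHom ξ)) := by
  haveI : HenselianLocalRing ↥(EtBase.etaleLocalRing ξ) := (isStrictlyHenselian_etaleLocalRing ξ).1
  let R := ↥(EtBase.etaleLocalRing ξ)
  let R' := ↥(EtBase.etaleLocalRing η)
  let ι : ResidueField R ≃+* ResidueField R' :=
    RingEquiv.ofBijective (ResidueField.map ψ)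
      ⟨(ResidueField.map ψ).injective, residueMap_surjective ξ h η ψ hψ hx⟩
  have hι : ∀ r, ι (residue R r) = residue R' (ψ r) := fun r => ResidueField.map_residue ψ r
  have hle' : ((I.map (baseHom ξ)).map ψ) ≤ maximalIdeal R' :=
    (Ideal.map_mono (map_le_maximalIdeal ξ hx)).trans
      (Ideal.map_le_iff_le_comap.2 fun r hr => localMap ψ r hr)
  have key : ∀ n, n ≠ 0 →
      (∀ b, ∃ r, b - ψ r ∈ ((I.map (baseHom ξ)) ^ n).map ψ) ∧
      (∀ r, ψ r ∈ ((I.map (baseHom ξ)) ^ n).map ψ → r ∈ (I.map (baseHom ξ)) ^ n) := by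
    intro n hn
    rw [← Ideal.map_pow]
    set J := (I ^ n).map (baseHom ξ) with hJ
    set J' := J.map ψ with hJ'
    have hJle : J ≤ maximalIdeal R :=
      (Ideal.map_mono (Ideal.pow_le_self hn)).trans (map_le_maximalIdeal ξ hx)
    haveI : Nontrivial (R ⧸ J) :=
      Ideal.Quotient.nontrivial_iff.2 fun e => (maximalIdeal.isMaximal R).ne_top (top_le_iff.1 (e ▸ hJle))
    haveI : IsLocalRing (R ⧸ J) := IsLocalRing.of_surjective' _ Ideal.Quotient.mk_surjective
    haveI : HenselianLocalRing (R ⧸ J) := H9Hens.henselianLocalRing_quotient J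
    haveI : IsLocalHom (Ideal.Quotient.mk J) := IsLocalHom.of_surjective _ Ideal.Quotient.mk_surjective
    have hJ'le : J' ≤ maximalIdeal R' :=
      (Ideal.map_mono hJle).trans (Ideal.map_le_iff_le_comap.2 fun r hr => localMap ψ r hr)
    haveI : Nontrivial (R' ⧸ J') :=
      Ideal.Quotient.nontrivial_iff.2 fun e => (maximalIdeal.isMaximal R').ne_top (top_le_iff.1 (e ▸ hJ'le))
    haveI : IsLocalRing (R' ⧸ J') := IsLocalRing.of_surjective' _ Ideal.Quotient.mk_surjective
    haveI : IsLocalHom (Ideal.Quotient.mk J') := IsLocalHom.of_surjective _ Ideal.Quotient.mk_surjective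
    haveI : HenselianLocalRing R' := (isStrictlyHenselian_etaleLocalRing η).1
    haveI : HenselianLocalRing (R' ⧸ J') := H9Hens.henselianLocalRing_quotient J'
    have hcm : I ^ n ≤ J.comap (baseHom ξ) := Ideal.le_comap_map
    let f : B →+* R ⧸ J := (Ideal.quotientMap J (baseHom ξ) hcm).comp (h.chi n)
    have hf : ∀ a, f (φ a) = Ideal.Quotient.mk J (baseHom ξ a) := fun a => by
      show Ideal.quotientMap J (baseHom ξ) hcm (h.chi n (φ a)) = _
      rw [h.chi_map, Ideal.quotientMap_mk]
    let τ : ResidueField R' →+* ResidueField (R ⧸ J) :=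
      (ResidueField.map (Ideal.Quotient.mk J)).comp ι.symm.toRingHom
    have hτι : ∀ r, τ (residue R' (ψ r)) = residue _ (Ideal.Quotient.mk J r) := fun r => by
      show ResidueField.map _ (ι.symm (residue R' (ψ r))) = _
      rw [← hι, RingEquiv.symm_apply_apply, ResidueField.map_residue]
    have hb : ∀ b, ∃ a, b - φ a ∈ (I ^ n).map φ ∧ f b = Ideal.Quotient.mk J (baseHom ξ a) ∧
        baseHom η b - ψ (baseHom ξ a) ∈ J' := fun b => by
      obtain ⟨a, ha⟩ := h.surj n b
      refine ⟨a, ha, ?_, ?_⟩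
      · show Ideal.quotientMap J (baseHom ξ) hcm (h.chi n b) = _
        rw [h.chi_eq n ha, Ideal.quotientMap_mk]
      · have h1 := Ideal.mem_map_of_mem (baseHom η) ha
        rw [map_sub, ← RingHom.comp_apply (baseHom η) φ, ← hψ, ← map_pow_map ξ η ψ hψ n] at h1
        exact h1
    have hτ : ∀ b, residue _ (f b) = τ (residue R' (baseHom η b)) := fun b => by
      obtain ⟨a, -, hfa, hba⟩ := hb b
      rw [hfa, ← hτι, ← sub_eq_zero, ← map_sub, ← map_sub,
        (residue_eq_zero_iff _).2 (hJ'le (by rw [← neg_sub]; exact J'.neg_mem hba)), map_zero]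
    obtain ⟨θ, ⟨hθ, hθr⟩, -⟩ := existsUnique_lift η (R ⧸ J) f τ hτ
    have h₁ : θ.comp ψ = Ideal.Quotient.mk J := by
      let τ₀ : ResidueField R →+* ResidueField (R ⧸ J) := ResidueField.map (Ideal.Quotient.mk J)
      obtain ⟨g, -, hg⟩ := existsUnique_lift ξ (R ⧸ J) ((Ideal.Quotient.mk J).comp (baseHom ξ)) τ₀
        fun a => (ResidueField.map_residue (Ideal.Quotient.mk J) (baseHom ξ a)).symm
      refine (hg _ ⟨?_, fun r => ?_⟩).trans (hg _ ⟨rfl, fun r => (ResidueField.map_residue _ _).symm⟩).symm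
      · rw [RingHom.comp_assoc, hψ, ← RingHom.comp_assoc, hθ]
        exact RingHom.ext hf
      · exact (hθr _).trans ((hτι r).trans (ResidueField.map_residue _ _).symm)
    let ψ' : R ⧸ J →+* R' ⧸ J' := Ideal.quotientMap J' ψ Ideal.le_comap_map
    have h₂ : ψ'.comp θ = Ideal.Quotient.mk J' := by
      let τ₁ : ResidueField R' →+* ResidueField (R' ⧸ J') := ResidueField.map (Ideal.Quotient.mk J')
      obtain ⟨g, -, hg⟩ := existsUnique_lift η (R' ⧸ J') ((Ideal.Quotient.mk J').comp (baseHom η)) τ₁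
        fun b => (ResidueField.map_residue (Ideal.Quotient.mk J') (baseHom η b)).symm
      refine (hg _ ⟨?_, fun r' => ?_⟩).trans (hg _ ⟨rfl, fun r => (ResidueField.map_residue _ _).symm⟩).symm
      · rw [RingHom.comp_assoc, hθ]
        refine RingHom.ext fun b => ?_
        obtain ⟨a, -, hfa, hba⟩ := hb b
        show ψ' (f b) = Ideal.Quotient.mk J' (baseHom η b)
        rw [hfa, Ideal.quotientMap_mk, eq_comm, Ideal.Quotient.eq]
        exact hba
      · obtain ⟨r, hr⟩ := residue_surjective (ι.symm (residue R' r'))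
        obtain ⟨t, ht⟩ := Ideal.Quotient.mk_surjective (θ r')
        have e : residue R' r' = residue R' (ψ r) := by rw [← hι, hr, RingEquiv.apply_symm_apply]
        have e2 := hθr r'
        rw [e, hτι, ← ht] at e2
        rw [← sub_eq_zero, ← map_sub, ← map_sub, residue_eq_zero_iff] at e2
        have e3 : t - r ∈ maximalIdeal R := (Ideal.Quotient.mk J).isUnit_map.mt e2
        show residue _ (ψ' (θ r')) = τ₁ (residue R' r')
        rw [← ht, e, ResidueField.map_residue, Ideal.quotientMap_mk, ← sub_eq_zero, ← map_sub, ← map_sub,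
          residue_eq_zero_iff, ← map_sub]
        exact localMap _ _ (localMap ψ _ e3)
    refine ⟨fun b => ?_, fun r hr => ?_⟩
    · obtain ⟨r, hr⟩ := Ideal.Quotient.mk_surjective (θ b)
      refine ⟨r, Ideal.Quotient.eq.1 ?_⟩
      rw [← h₂, RingHom.comp_apply, RingHom.comp_apply, ← hr,
        show θ (ψ r) = Ideal.Quotient.mk J r from RingHom.congr_fun h₁ r]
    · rw [← Ideal.Quotient.eq_zero_iff_mem, ← RingHom.congr_fun h₁ r, RingHom.comp_apply]
      refine (Ideal.map_le_iff_le_comap.2 (fun x hx => ?_) : J' ≤ RingHom.ker θ) hr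
      show θ (ψ x) = 0
      rw [← RingHom.comp_apply, h₁, Ideal.Quotient.eq_zero_iff_mem]
      exact hx
  refine ⟨fun n b => ?_, fun n r hr => ?_, hle'.trans (maximalIdeal_le_jacobson ⊥)⟩
  · rcases eq_or_ne n 0 with rfl | hn
    · exact ⟨0, by rw [pow_zero, Ideal.one_eq_top, Ideal.map_top]; trivial⟩
    · exact (key n hn).1 b
  · rcases eq_or_ne n 0 with rfl | hn
    · rw [pow_zero, Ideal.one_eq_top]; trivial
    · exact (key n hn).2 r hr

include hx in
theorem henselianRing_etaleLocalRing :
    HenselianRing ↥(EtBase.etaleLocalRing ξ) (I.map (baseHom ξ)) := by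
  haveI : HenselianLocalRing ↥(EtBase.etaleLocalRing ξ) := (isStrictlyHenselian_etaleLocalRing ξ).1
  exact H9Hens.henselianRing_of_le (J := maximalIdeal _) (map_le_maximalIdeal ξ hx)

end Pair

end Groth.Agent.H11Rig
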