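import Groth.Agent.H11Rig.StalkPush
import Groth.Agent.H11Rig.TruncHens
import Groth.Agent.H11Rig.CPI
import Groth.Agent.H11Rig.CPILocal

/-!
# The map of strictly henselian local schemes along an affine morphism; Gabber rigidity for stalks
-/

set_option autoImplicit false
set_option linter.style.haveILetI false
set_option linter.unusedSectionVars false
set_option backward.isDefEq.respectTransparency false
set_option backward.isDefEq.respectTransparency.types false

universe u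

open CategoryTheory CategoryTheory.Limits AlgebraicGeometry Opposite
open scoped Groth.Agent.H18Et

namespace Groth.Agent.H11Rig.StalkPush

open H15Site.SetDescent H18Et H18PBC H18PBC.Fibre H12AlgSp

section Psi

variable {Y Y' : Scheme.{u}} (g : Y' ⟶ Y) [IsAffineHom g] {Ω : Type u} [Field Ω] [IsSepClosed Ω]
  (η : Spec (CommRingCat.of Ω) ⟶ Y')

/-- The map of the strictly henselian local scheme to an affine neighbourhood. -/
noncomputable def toAff {X : Scheme.{u}} (ξ : Spec (CommRingCat.of Ω) ⟶ X) (W : X.Etale) [IsAffine W.left]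
    (z : (Scheme.pointSmallEtale ξ).fiber.obj W) : Spec (EtBase.etaleLocalRing ξ) ⟶ W.left :=
  Spec.map (funGerm ξ W z) ≫ W.left.isoSpec.inv

theorem toAff_map {X : Scheme.{u}} (ξ : Spec (CommRingCat.of Ω) ⟶ X) {W W' : X.Etale} [IsAffine W.left]
    [IsAffine W'.left] (a : W' ⟶ W) (z : (Scheme.pointSmallEtale ξ).fiber.obj W') :
    toAff ξ W' z ≫ a.left = toAff ξ W ((Scheme.pointSmallEtale ξ).fiber.map a z) := by
  show (_ ≫ _) ≫ a.left = _ ≫ _
  rw [Category.assoc, ← Scheme.isoSpec_inv_naturality, ← Category.assoc, ← Spec.map_comp]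
  congr 2
  ext r
  exact funGerm_map ξ a z r

instance isAffine_bc_nb (i : Nbhd.NI (η ≫ g)) :
    IsAffine ((EtCoh.bc g).obj ((Nbhd.nb (η ≫ g)).obj i)).left := by
  haveI : IsAffine ((Scheme.Etale.forget Y).obj ((Nbhd.nb (η ≫ g)).obj i)).left := Nbhd.isAffine_nb (η ≫ g) i
  haveI : IsAffine ((𝟭 Scheme.{u}).obj ((Nbhd.nb (η ≫ g)).obj i).left) := Nbhd.isAffine_nb (η ≫ g) i
  show IsAffine (pullback ((Nbhd.nb (η ≫ g)).obj i).hom g : Scheme.{u})
  exact isAffine_of_isAffineHom (pullback.fst _ _)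

theorem zbc_map {i k : Nbhd.NI (η ≫ g)} (a : k ⟶ i) :
    (Scheme.pointSmallEtale η).fiber.map ((EtCoh.bc g).map ((Nbhd.nb (η ≫ g)).map a)) (zbc g η k) =
      zbc g η i := by
  have h := NatTrans.naturality_apply (fiberCompIso g η).inv ((Nbhd.nb (η ≫ g)).map a) (Nbhd.zb (η ≫ g) k)
  rw [Nbhd.zb_map] at h
  exact h.symm

/-- The cone over the affine neighbourhoods. -/
noncomputable def psiCone : Cone (LimSec.sch (Nbhd.nb (η ≫ g))) where
  pt := Spec (EtBase.etaleLocalRing η)
  π :=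
  { app := fun i => toAff η _ (zbc g η i) ≫ pullback.fst ((Nbhd.nb (η ≫ g)).obj i).hom g
    naturality := fun k i a => by
      refine (Category.id_comp _).trans ?_
      refine Eq.symm ((Category.assoc _ _ _).trans ((congrArg (_ ≫ ·) (bc_map_fst g _).symm).trans ?_))
      refine (Category.assoc _ _ _).symm.trans (congrArg (· ≫ _) ?_)
      rw [toAff_map, zbc_map] }

/-- The map of strictly henselian local schemes. -/
noncomputable def psi : EtBase.etaleLocalRing (η ≫ g) ⟶ EtBase.etaleLocalRing η :=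
  Spec.preimage ((Nbhd.isLimitCone (η ≫ g)).lift (psiCone g η))

theorem psi_π (i : Nbhd.NI (η ≫ g)) : Spec.map (psi g η) ≫ (Nbhd.cone (η ≫ g)).π.app i =
    toAff η _ (zbc g η i) ≫ pullback.fst ((Nbhd.nb (η ≫ g)).obj i).hom g :=
  (congrArg (· ≫ (Nbhd.cone (η ≫ g)).π.app i) (Spec.map_preimage _)).trans
    ((Nbhd.isLimitCone (η ≫ g)).fac (psiCone g η) i)

theorem psi_π_index (i : Nbhd.NI (η ≫ g)) (k : Nbhd.NI η)
    (gk : (Nbhd.nb η).obj k ⟶ (EtCoh.bc g).obj ((Nbhd.nb (η ≫ g)).obj i))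
    (h : (Scheme.pointSmallEtale η).fiber.map gk (Nbhd.zb η k) = zbc g η i) :
    Spec.map (psi g η) ≫ (Nbhd.cone (η ≫ g)).π.app i =
      (Nbhd.cone η).π.app k ≫ gk.left ≫ pullback.fst ((Nbhd.nb (η ≫ g)).obj i).hom g := by
  refine (psi_π g η i).trans ?_
  rw [← h, ← toAff_map η gk (Nbhd.zb η k)]
  exact Category.assoc _ _ _

theorem psi_toBase : Spec.map (psi g η) ≫ Nbhd.toBase (η ≫ g) = Nbhd.toBase η ≫ g := by
  obtain ⟨i⟩ := (IsCofiltered.nonempty : Nonempty (Nbhd.NI (η ≫ g)))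
  obtain ⟨k, ⟨gk, hgk⟩⟩ := Nbhd.exists_index η ⟨_, zbc g η i⟩
  dsimp at gk hgk
  rw [← Nbhd.toBase_eq (η ≫ g) i, ← Nbhd.toBase_eq η k]
  refine (Category.assoc _ _ _).symm.trans ((congrArg (· ≫ _) (psi_π_index g η i k gk hgk)).trans ?_)
  refine (Category.assoc _ _ _).trans (Eq.trans (congrArg (_ ≫ ·) ?_) (Category.assoc _ _ _).symm)
  refine (Category.assoc _ _ _).trans ((congrArg (gk.left ≫ ·) pullback.condition).trans ?_)
  exact (Category.assoc _ _ _).symm.trans (congrArg (· ≫ g) (Over.w gk.hom))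

theorem valueHom_psi : psi g η ≫ valueHom η = valueHom (η ≫ g) := by
  apply Spec.map_injective
  rw [Spec.map_comp]
  refine (Nbhd.isLimitCone (η ≫ g)).hom_ext fun i => ?_
  obtain ⟨k, ⟨gk, hgk⟩⟩ := Nbhd.exists_index η ⟨_, zbc g η i⟩
  dsimp at gk hgk
  refine (Category.assoc _ _ _).trans ((congrArg (_ ≫ ·) (psi_π_index g η i k gk hgk)).trans ?_)
  refine (Category.assoc _ _ _).symm.trans ((congrArg (· ≫ _) (Nbhd.valueHom_π η k)).trans ?_)
  refine Eq.trans ?_ (Nbhd.valueHom_π (η ≫ g) i).symm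
  refine (Category.assoc _ _ _).symm.trans ?_
  refine (congrArg (· ≫ pullback.fst ((Nbhd.nb (η ≫ g)).obj i).hom g) (congrArg (fun z => z.left) hgk)).trans ?_
  exact fiberCompIso_inv_left g η _ _

instance isLocalHom_psi : IsLocalHom (psi g η).hom :=
  ⟨fun r hr => isUnit_of_valueHom_ne_zero (η ≫ g) r (by
    rw [← valueHom_psi g η]
    exact (hr.map (valueHom η).hom).ne_zero)⟩

end Psi

section Square

variable {X Y X' Y' : Scheme.{u}} (f : X ⟶ Y) (g : Y' ⟶ Y) [IsAffineHom g] (f' : X' ⟶ Y') (g' : X' ⟶ X)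
  (w : g' ≫ f = f' ≫ g) {Ω : Type u} [Field Ω] [IsSepClosed Ω] (η : Spec (CommRingCat.of Ω) ⟶ Y')

/-- The map of strictly henselian base changes. -/
noncomputable def mapXA : XA f' η ⟶ XA f (η ≫ g) :=
  pullback.map (Nbhd.toBase η) f' (Nbhd.toBase (η ≫ g)) f (Spec.map (psi g η)) g' g
    (psi_toBase g η).symm w.symm

theorem bijective_stalk_baseChange0Sh' (hC : CPI (mapXA f g f' g' w η)) [QuasiCompact f] [QuasiSeparated f]
    [QuasiCompact f'] [QuasiSeparated f'] (F : EtDesc.Sh X) :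
    Function.Bijective (((Scheme.pointSmallEtale η).sheafFiber (A := Type (u + 1))).map
      (EtBC.baseChange0Sh f g f' g' w F)) := by
  refine bijective_stalk_baseChange0Sh f g f' g' w η (mapXA f g f' g' w η) (pullback.lift_snd _ _ _)
    (fun i k gk h => ?_) hC F
  refine (congrArg (· ≫ _) (pullback.lift_fst _ _ _)).trans ?_
  refine (Category.assoc _ _ _).trans ((congrArg (_ ≫ ·) (psi_π_index g η i k gk h)).trans ?_)
  exact (Category.assoc _ _ _).symm

end Square

section Gabber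

variable {A B : Type u} [CommRing A] [CommRing B] {φ : A →+* B} {I : Ideal A} {Ω : Type u} [Field Ω]
  [IsSepClosed Ω] (η : Spec (CommRingCat.of Ω) ⟶ Spec (CommRingCat.of B))

theorem psi_baseHom : (psi (Spec.map (CommRingCat.ofHom φ)) η).hom.comp
    (baseHom (η ≫ Spec.map (CommRingCat.ofHom φ))) = (baseHom η).comp φ := by
  have e : CommRingCat.ofHom (baseHom (η ≫ Spec.map (CommRingCat.ofHom φ))) ≫
      psi (Spec.map (CommRingCat.ofHom φ)) η = CommRingCat.ofHom φ ≫ CommRingCat.ofHom (baseHom η) := by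
    apply Spec.map_injective
    rw [Spec.map_comp, Spec.map_comp, map_baseHom, map_baseHom, psi_toBase]
  exact congrArg CommRingCat.Hom.hom e

theorem cpi_mapXA (h : Trunc φ I) (hI : I.FG) (U : (Spec (CommRingCat.of A)).Opens)
    (hU : IsCompact (U : Set (Spec (CommRingCat.of A))))
    (hUI : ∀ x : Spec (CommRingCat.of A), x ∉ U → I ≤ x.asIdeal) :
    CPI (mapXA U.ι (Spec.map (CommRingCat.ofHom φ)) (Spec.map (CommRingCat.ofHom φ) ⁻¹ᵁ U).ι
      (Spec.map (CommRingCat.ofHom φ) ∣_ U) (morphismRestrict_ι _ U) η) := by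
  let g := Spec.map (CommRingCat.ofHom φ)
  let ξ := η ≫ g
  let ψ := (psi g η).hom
  let p : Spec (EtBase.etaleLocalRing ξ) ⟶ Spec (CommRingCat.of A) := Nbhd.toBase ξ
  let p' : Spec (EtBase.etaleLocalRing η) ⟶ Spec (CommRingCat.of B) := Nbhd.toBase η
  let S := Spec.map (psi g η)
  let V := p ⁻¹ᵁ U
  let V' := S ⁻¹ᵁ V
  haveI : QuasiCompact p := inferInstance
  have hV : IsCompact (V : Set (Spec (EtBase.etaleLocalRing ξ))) := p.isCompact_preimage hU
  obtain ⟨hR, hk⟩ := isStrictlyHenselian_etaleLocalRing ξ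
  haveI := hR
  haveI := hk
  haveI : IsLocalHom ψ := isLocalHom_psi g η
  have hC : CPI (S ∣_ V) := by
    by_cases hx : I ≤ (EtStrictHens.imagePt ξ).asIdeal
    · haveI := henselianRing_etaleLocalRing ξ hx
      refine cpi_morphismRestrict (I := I.map (baseHom ξ))
        (trunc_etaleLocalRing ξ h η ψ (psi_baseHom η) hx) (hI.map _) V hV fun r hr => ?_
      refine Ideal.map_le_iff_le_comap.2 fun a ha => ?_
      have := hUI (p r) hr ha
      rw [show p = Spec.map (CommRingCat.ofHom (baseHom ξ)) from (map_baseHom ξ).symm] at this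
      exact this
    · have htop : V = ⊤ := by
        refine top_le_iff.1 fun r _ => ?_
        by_contra hr
        refine hx ((hUI (p r) hr).trans ?_)
        rw [show p = Spec.map (CommRingCat.ofHom (baseHom ξ)) from (map_baseHom ξ).symm]
        intro a ha
        rw [← baseHom_mem_maximalIdeal_iff]
        exact IsLocalRing.le_maximalIdeal r.isPrime.ne_top ha
      haveI hι : ∀ {Z : Scheme.{u}}, IsIso (⊤ : Z.Opens).ι := fun {Z} => Z.topIso.isIso_hom
      haveI : IsIso V.ι := by rw [htop]; exact hι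
      haveI : IsIso V'.ι := by
        rw [show V' = ⊤ from by show S ⁻¹ᵁ V = ⊤; rw [htop]; rfl]
        exact hι
      haveI : IsLocalRing ↥(EtBase.etaleLocalRing η) := EtStrictHens.isLocalRing' η
      refine CPI.of_arrow_iso (asIso V'.ι).symm (asIso V.ι).symm
        ((IsIso.inv_comp_eq V'.ι).2 (((IsIso.comp_inv_eq V.ι).2 ?_).symm.trans (Category.assoc _ _ _)))
        (cpi_specMap_of_isLocalHom ψ)
      exact (morphismRestrict_ι S V).symm
  -- identify the two fibre products with open subschemes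
  let e : (V : Scheme.{u}) ≅ XA U.ι ξ := (isPullback_morphismRestrict p U).flip.isoPullback
  let e' : (p' ⁻¹ᵁ (g ⁻¹ᵁ U) : Scheme.{u}) ≅ XA (g ⁻¹ᵁ U).ι η :=
    (isPullback_morphismRestrict p' (g ⁻¹ᵁ U)).flip.isoPullback
  have hVV : V' = p' ⁻¹ᵁ (g ⁻¹ᵁ U) := by
    show (S ≫ p) ⁻¹ᵁ U = (p' ≫ g) ⁻¹ᵁ U
    rw [show S ≫ p = p' ≫ g from psi_toBase g η]
  refine CPI.of_arrow_iso ((Spec (EtBase.etaleLocalRing η)).isoOfEq hVV ≪≫ e') e ?_ hC
  haveI : Mono (pullback.fst (Nbhd.toBase ξ) U.ι) := inferInstance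
  refine (cancel_mono (pullback.fst (Nbhd.toBase ξ) U.ι)).1 ?_
  rw [Category.assoc, Category.assoc, Iso.trans_hom, Category.assoc]
  refine (congrArg (fun q => _ ≫ _ ≫ q) (pullback.lift_fst _ _ _)).trans ?_
  refine (congrArg (_ ≫ ·) ((Category.assoc _ _ _).symm.trans
    (congrArg (· ≫ S) (IsPullback.isoPullback_hom_fst _)))).trans ?_
  refine Eq.trans ?_ (congrArg (_ ≫ ·) (IsPullback.isoPullback_hom_fst _)).symm
  rw [morphismRestrict_ι, ← Category.assoc, Scheme.isoOfEq_hom_ι]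

end Gabber

end Groth.Agent.H11Rig.StalkPush
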