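import Groth.Agent.H28Top.Spectral
import Mathlib.Topology.Sets.Opens
import Mathlib.Topology.Connected.Clopen

/-!
# Finite compatible refinements along a map with connected preimages of point closures
-/

set_option autoImplicit false
set_option linter.style.haveILetI false

universe u

open TopologicalSpace

namespace Groth.Agent.H11Rig

variable {X Z : Type u} [TopologicalSpace X] [TopologicalSpace Z]

/-- Given opens `W a` around the images of the points of `Z`, on neighbourhoods `A a ⊆ f ⁻¹' W a` of which the open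
equivalence loci are everything, one finds finitely many opens covering `X` on whose overlaps the loci are
everything, compatible with all the given ones. -/
theorem exists_compatible_refinement [SpectralSpace X] [CompactSpace Z] [PrespectralSpace Z] (f : Z → X)
    (hf : Continuous f) (hconn : ∀ x : X, IsConnected (f ⁻¹' closure {x}))
    (W : Z → Opens X) (A : Z → Opens Z) (hA : ∀ a, a ∈ A a) (hAW : ∀ a, (A a : Set Z) ⊆ f ⁻¹' (W a))
    (E : Z → Z → Set X) (hEo : ∀ a b, IsOpen (E a b))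
    (hEA : ∀ a b z, z ∈ A a → z ∈ A b → f z ∈ E a b)
    (hsymm : ∀ a b, ∀ x ∈ E a b, x ∈ E b a)
    (htrans : ∀ a b c, ∀ x ∈ E a b, x ∈ E b c → x ∈ E a c) :
    ∃ (t : Finset Z) (O : Z → Opens X), (∀ a, O a ≤ W a) ∧ (∀ x : X, ∃ a ∈ t, x ∈ O a) ∧
      ∀ a ∈ t, ∀ x ∈ O a, (∀ z, x ⤳ f z → x ∈ E a z) ∧ ∀ c ∈ t, x ∈ O c → x ∈ E a c := by
  classical
  have key : ∀ (x : X) (z w : Z), x ⤳ f z → x ⤳ f w → x ∈ E z w := by
    intro x z w hxz hxw
    haveI := isConnected_iff_connectedSpace.1 (hconn x)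
    let T : Set ↥(f ⁻¹' closure {x}) := {v | x ∈ E z v.1}
    have hstep : ∀ v v' : ↥(f ⁻¹' closure {x}), v'.1 ∈ A v.1 → x ∈ E v.1 v'.1 :=
      fun v v' hv' => (specializes_iff_mem_closure.2 v'.2).mem_open (hEo _ _) (hEA _ _ v'.1 hv' (hA _))
    have hT : IsClopen T := by
      refine ⟨isOpen_compl_iff.1 (isOpen_iff_forall_mem_open.2 fun v hv => ?_),
        isOpen_iff_forall_mem_open.2 fun v hv => ?_⟩
      · exact ⟨Subtype.val ⁻¹' (A v.1 : Set Z), fun v' hv' h => hv (htrans _ _ _ _ h (hsymm _ _ _ (hstep v v' hv'))),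
          (A _).isOpen.preimage continuous_subtype_val, hA _⟩
      · exact ⟨Subtype.val ⁻¹' (A v.1 : Set Z), fun v' hv' => htrans _ _ _ _ hv (hstep v v' hv'),
          (A _).isOpen.preimage continuous_subtype_val, hA _⟩
    have hzT : (⟨z, specializes_iff_mem_closure.1 hxz⟩ : ↥(f ⁻¹' closure {x})) ∈ T :=
      hxz.mem_open (hEo _ _) (hEA _ _ z (hA _) (hA _))
    have h := hT.eq_univ ⟨_, hzT⟩
    exact Set.eq_univ_iff_forall.1 h ⟨w, specializes_iff_mem_closure.1 hxw⟩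
  have hzx : ∀ x : X, ∃ z : Z, x ⤳ f z := fun x => by
    obtain ⟨z, hz⟩ := (hconn x).nonempty
    exact ⟨z, specializes_iff_mem_closure.2 hz⟩
  choose zx hzx using hzx
  have hV : ∀ a : Z, ∃ V : Set X, IsOpen V ∧ IsCompact V ∧ f a ∈ V ∧ V ⊆ W a := fun a => by
    obtain ⟨V, ⟨h1, h2⟩, h3, h4⟩ :=
      PrespectralSpace.isTopologicalBasis.exists_subset_of_mem_open (show f a ∈ (W a : Set X) from hAW a (hA a)) (W a).isOpen
    exact ⟨V, h1, h2, h3, h4⟩
  choose V hVo hVc hVmem hVW using hV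
  have hC : ∀ a : Z, ∃ C : Set Z, IsOpen C ∧ IsCompact C ∧ a ∈ C ∧ C ⊆ A a ∧ C ⊆ f ⁻¹' V a := fun a => by
    obtain ⟨C, ⟨h1, h2⟩, h3, h4⟩ :=
      PrespectralSpace.isTopologicalBasis.exists_subset_of_mem_open (show a ∈ (A a : Set Z) ∩ f ⁻¹' V a from
        ⟨hA a, hVmem a⟩) ((A a).isOpen.inter ((hVo a).preimage hf))
    exact ⟨C, h1, h2, h3, fun x hx => (h4 hx).1, fun x hx => (h4 hx).2⟩
  choose C hCo hCc hCmem hCA hCV using hC
  obtain ⟨t, ht⟩ := isCompact_univ.elim_finite_subcover C hCo fun z _ => Set.mem_iUnion.2 ⟨z, hCmem _⟩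
  let B : Z → Z → Set X := fun a b => ((V a ∩ V b) ∩ (E a b)ᶜ) ∩ {x | ∃ e ∈ f '' C b, x ⤳ e}
  have hB : ∀ a b, @IsClosed X (constructibleTopology X) (B a b) := fun a b => by
    refine @IsClosed.inter X _ _ (constructibleTopology X) ?_
      (H28Top.isClosed_constr_generalization ((hCc b).image hf))
    refine @IsClosed.inter X _ _ (constructibleTopology X) ?_
      (H28Top.isClosed_constr_of_isClosed (hEo a b).isClosed_compl)
    exact H28Top.isClosed_constr_of_compactOpen ((hVo a).inter (hVo b))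
      (QuasiSeparatedSpace.inter_isCompact (V a) (V b) (hVo a) (hVc a) (hVo b) (hVc b))
  let O : Z → Opens X := fun a => ⟨V a ∩ ⋂ b : t, (closure (B a b.1))ᶜ,
    (hVo a).inter (isOpen_iInter_of_finite fun b => isClosed_closure.isOpen_compl)⟩
  have hmem : ∀ {d : Z} {x : X}, x ∈ O d → ∀ b ∈ t, zx x ∈ C b → x ∈ E d b := fun {d x} hd b hb hzb => by
    by_contra hne
    exact Set.mem_iInter.1 hd.2 ⟨b, hb⟩ (subset_closure
      ⟨⟨⟨hd.1, (hzx x).mem_open (hVo b) (hCV _ hzb)⟩, hne⟩, f (zx x), ⟨zx x, hzb, rfl⟩, hzx x⟩)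
  refine ⟨t, O, fun a x hx => hVW a hx.1, fun x => ?_, fun a _ x hxa => ?_⟩
  · obtain ⟨a, ha, hza⟩ := Set.mem_iUnion₂.1 (ht (Set.mem_univ (zx x)))
    refine ⟨a, ha, (hzx x).mem_open (hVo a) (hCV _ hza), Set.mem_iInter.2 fun b hb => ?_⟩
    obtain ⟨e, ⟨⟨⟨-, -⟩, hne⟩, ⟨_, ⟨w, hwb, rfl⟩, hew⟩⟩, hex⟩ :=
      H28Top.exists_specializes_of_mem_closure (hB a b.1) hb
    have hez := hex.trans (hzx x)
    have h1 : e ∈ E a (zx x) := hez.mem_open (hEo _ _) (hEA _ _ _ (hCA _ hza) (hA _))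
    have h2 : e ∈ E w b.1 := hew.mem_open (hEo _ _) (hEA _ _ _ (hA _) (hCA _ hwb))
    exact hne (htrans _ _ _ _ h1 (htrans _ _ _ _ (key e _ _ hez hew) h2))
  · obtain ⟨b, hb, hzb⟩ := Set.mem_iUnion₂.1 (ht (Set.mem_univ (zx x)))
    refine ⟨fun z hz => ?_, fun c _ hxc => htrans _ _ _ _ (hmem hxa b hb hzb) (hsymm _ _ _ (hmem hxc b hb hzb))⟩
    have h2 : x ∈ E (zx x) b := (hzx x).mem_open (hEo _ _) (hEA _ _ _ (hA _) (hCA _ hzb))
    exact htrans _ _ _ _ (hmem hxa b hb hzb) (htrans _ _ _ _ (hsymm _ _ _ h2) (key x _ _ (hzx x) hz))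

end Groth.Agent.H11Rig
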