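import Groth.Agent.H18PBC.Gabber
import Groth.Agent.H18PBC.GeomConn
import Groth.Agent.H11Rig.SL
import Groth.Agent.H11Rig.Refine

/-!
# Representatives of a section of an inverse image sheaf on a cover of the base
-/

set_option autoImplicit false
set_option linter.style.haveILetI false
set_option linter.unusedSectionVars false
set_option backward.isDefEq.respectTransparency false
set_option backward.isDefEq.respectTransparency.types false

universe u

open CategoryTheory CategoryTheory.Limits AlgebraicGeometry Opposite TopologicalSpace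
open scoped Groth.Agent.H18Et

namespace Groth.Agent.H11Rig

open H15Site.SetDescent H18Et H18PBC

variable {Z X T : Scheme.{u}} (f : Z ⟶ X) (G : EtDesc.Sh X)
  (σ : ((EtDesc.pullSh f).obj G).obj.obj (op ((EtCoh.bc f).obj (EtCoh.top X))))

/-- The restriction of `σ` to the base change of an étale `X`-scheme. -/
noncomputable abbrev resσ (W : X.Etale) : ((EtDesc.pullSh f).obj G).obj.obj (op ((EtCoh.bc f).obj W)) :=
  ((EtDesc.pullSh f).obj G).obj.map ((EtCoh.bc f).map (toTop W)).op σ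

theorem map_resσ {W W' : X.Etale} (g : W' ⟶ W) :
    ((EtDesc.pullSh f).obj G).obj.map ((EtCoh.bc f).map g).op (resσ f G σ W) = resσ f G σ W' := by
  rw [← Functor.map_comp_apply, ← op_comp, ← Functor.map_comp,
    (EtCore.topIsTerminal X).hom_ext (g ≫ toTop W) (toTop W')]

/-- The locus where `t` represents `σ`. -/
def rep (W : X.Etale) (t : G.obj.obj (op W)) : Set (((EtCoh.bc f).obj W).left) :=
  agree ((EtDesc.pullSh f).obj G) (pullSect f G t) (resσ f G σ W)

variable {f G σ} {p : T ⟶ X}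

theorem homOfLE_pt {Y : Scheme.{u}} {U V : Y.Opens} (le : U ≤ V) {z : Y} (h : z ∈ U) :
    Y.homOfLE le (⟨z, h⟩ : (U : Scheme.{u})) = ⟨z, le h⟩ :=
  Subtype.ext (congrArg (fun g : (U : Scheme.{u}) ⟶ Y => g ⟨z, h⟩) (Y.homOfLE_ι le))

theorem resLE_pt {Y Y' : Scheme.{u}} (m : Y ⟶ Y') {U : Y.Opens} {V : Y'.Opens} (le : U ≤ m ⁻¹ᵁ V) {z : Y} (h : z ∈ U) :
    m.resLE V U le (⟨z, h⟩ : (U : Scheme.{u})) = ⟨m z, le h⟩ :=
  Subtype.ext (congrArg (fun g : (U : Scheme.{u}) ⟶ Y' => g ⟨z, h⟩) (Scheme.Hom.resLE_comp_ι m le))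

/-- The map to `W ×_X Z` induced by a map from an open of `T`. -/
noncomputable def mapW {O : T.Opens} {W : X.Etale} (k : (O : Scheme.{u}) ⟶ W.left) (hk : k ≫ W.hom = O.ι ≫ p) :
    ((pullback.fst p f ⁻¹ᵁ O : (pullback p f).Opens) : Scheme.{u}) ⟶ ((EtCoh.bc f).obj W).left :=
  pullback.lift ((pullback.fst p f).resLE O (pullback.fst p f ⁻¹ᵁ O) le_rfl ≫ k)
    ((pullback.fst p f ⁻¹ᵁ O).ι ≫ pullback.snd p f)
    (by rw [Category.assoc, hk, Scheme.Hom.resLE_comp_ι_assoc, Category.assoc, pullback.condition])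

theorem mapW_fst {O : T.Opens} {W : X.Etale} (k : (O : Scheme.{u}) ⟶ W.left) (hk : k ≫ W.hom = O.ι ≫ p) :
    mapW (f := f) k hk ≫ pullback.fst W.hom f = (pullback.fst p f).resLE O (pullback.fst p f ⁻¹ᵁ O) le_rfl ≫ k :=
  pullback.lift_fst _ _ _

theorem mapW_snd {O : T.Opens} {W : X.Etale} (k : (O : Scheme.{u}) ⟶ W.left) (hk : k ≫ W.hom = O.ι ≫ p) :
    mapW (f := f) k hk ≫ pullback.snd W.hom f = (pullback.fst p f ⁻¹ᵁ O).ι ≫ pullback.snd p f :=
  pullback.lift_snd _ _ _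

variable (σ) in
/-- The locus of `T ×_X Z` on which a representative is valid. -/
def good {O : T.Opens} {W : X.Etale} (k : (O : Scheme.{u}) ⟶ W.left) (hk : k ≫ W.hom = O.ι ≫ p)
    (t : G.obj.obj (op W)) : Set ↥(pullback p f) :=
  {z | ∃ hz : pullback.fst p f z ∈ O,
    mapW k hk (⟨z, hz⟩ : ((pullback.fst p f ⁻¹ᵁ O : (pullback p f).Opens) : Scheme.{u})) ∈ rep f G σ W t}

theorem isOpen_good {O : T.Opens} {W : X.Etale} (k : (O : Scheme.{u}) ⟶ W.left) (hk : k ≫ W.hom = O.ι ≫ p)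
    (t : G.obj.obj (op W)) : IsOpen (good σ k hk t) := by
  have e : good σ k hk t = (pullback.fst p f ⁻¹ᵁ O).ι '' (mapW k hk ⁻¹' rep f G σ W t) := by
    ext z
    constructor
    · rintro ⟨hz, h⟩
      exact ⟨⟨z, hz⟩, h, rfl⟩
    · rintro ⟨⟨z', hz'⟩, h, rfl⟩
      exact ⟨hz', h⟩
  rw [e]
  exact (pullback.fst p f ⁻¹ᵁ O).ι.isOpenEmbedding.isOpenMap _
    ((isOpen_agree _ _ _).preimage (mapW k hk).continuous)

/-- Restriction of a representative. -/
theorem good_of_le {O O' : T.Opens} (le : O' ≤ O) {W : X.Etale} (k : (O : Scheme.{u}) ⟶ W.left)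
    (hk : k ≫ W.hom = O.ι ≫ p) (t : G.obj.obj (op W)) {z : ↥(pullback p f)} (h : z ∈ good σ k hk t)
    (hz' : pullback.fst p f z ∈ O') : z ∈ good σ (T.homOfLE le ≫ k) (homOfLE_comp le p k hk) t := by
  obtain ⟨hz, h⟩ := h
  refine ⟨hz', ?_⟩
  have e : mapW (f := f) (T.homOfLE le ≫ k) (homOfLE_comp le p k hk) =
      (pullback p f).homOfLE (show pullback.fst p f ⁻¹ᵁ O' ≤ pullback.fst p f ⁻¹ᵁ O from fun x hx => le hx) ≫
        mapW k hk := by
    refine pullback.hom_ext ?_ ?_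
    · rw [Category.assoc, mapW_fst, mapW_fst, ← Category.assoc, ← Category.assoc]
      congr 1
      rw [← cancel_mono O.ι, Category.assoc, Category.assoc, Scheme.homOfLE_ι, Scheme.Hom.resLE_comp_ι,
        Scheme.Hom.resLE_comp_ι, Scheme.homOfLE_ι_assoc]
    · rw [Category.assoc, mapW_snd, mapW_snd, Scheme.homOfLE_ι_assoc]
  rw [e, Scheme.Hom.comp_apply, homOfLE_pt]
  exact h

/-- Pullback of a representative. -/
theorem good_comp {S : Scheme.{u}} (r₀ : S ⟶ T) (q : S ⟶ X) (w : r₀ ≫ p = q) {O : T.Opens} {B : S.Opens}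
    (r : (B : Scheme.{u}) ⟶ (O : Scheme.{u})) (hr : r ≫ O.ι = B.ι ≫ r₀) {W : X.Etale}
    (k : (O : Scheme.{u}) ⟶ W.left) (hk : k ≫ W.hom = O.ι ≫ p) (hrk : (r ≫ k) ≫ W.hom = B.ι ≫ q)
    (t : G.obj.obj (op W)) {z : ↥(pullback q f)} (hz : pullback.fst q f z ∈ B)
    (h : pullback.map q f p f r₀ (𝟙 Z) (𝟙 X) (by rw [Category.comp_id, w]) (by simp) z ∈ good σ k hk t) :
    z ∈ good σ (r ≫ k) hrk t := by
  let m := pullback.map q f p f r₀ (𝟙 Z) (𝟙 X) (by rw [Category.comp_id, w]) (by simp)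
  obtain ⟨hmz, h⟩ := h
  refine ⟨hz, ?_⟩
  have hle : pullback.fst q f ⁻¹ᵁ B ≤ m ⁻¹ᵁ (pullback.fst p f ⁻¹ᵁ O) := fun x hx => by
    show pullback.fst p f (m x) ∈ O
    rw [← Scheme.Hom.comp_apply, show m ≫ pullback.fst p f = pullback.fst q f ≫ r₀ from pullback.lift_fst _ _ _,
      Scheme.Hom.comp_apply]
    have := congrArg (fun g : (B : Scheme.{u}) ⟶ T => g ⟨_, hx⟩) hr
    exact this ▸ (r ⟨_, hx⟩).2
  have e : mapW (f := f) (r ≫ k) hrk = m.resLE _ _ hle ≫ mapW k hk := by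
    refine pullback.hom_ext ?_ ?_
    · rw [Category.assoc, mapW_fst, mapW_fst, ← Category.assoc, ← Category.assoc]
      congr 1
      rw [← cancel_mono O.ι, Category.assoc, Category.assoc, hr, Scheme.Hom.resLE_comp_ι,
        Scheme.Hom.resLE_comp_ι_assoc, Scheme.Hom.resLE_comp_ι_assoc,
        show m ≫ pullback.fst p f = pullback.fst q f ≫ r₀ from pullback.lift_fst _ _ _]
    · rw [Category.assoc, mapW_snd, mapW_snd, Scheme.Hom.resLE_comp_ι_assoc,
        show m ≫ pullback.snd p f = pullback.snd q f ≫ 𝟙 Z from pullback.lift_snd _ _ _, Category.comp_id]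
  rw [e, Scheme.Hom.comp_apply, resLE_pt]
  exact h

/-- Two representatives are valid at a point together exactly when they agree below it. -/
theorem good_iff {A B : T.Opens} {W₁ W₂ : X.Etale} (k₁ : (A : Scheme.{u}) ⟶ W₁.left)
    (hk₁ : k₁ ≫ W₁.hom = A.ι ≫ p) (t₁ : G.obj.obj (op W₁)) (k₂ : (B : Scheme.{u}) ⟶ W₂.left)
    (hk₂ : k₂ ≫ W₂.hom = B.ι ≫ p) (t₂ : G.obj.obj (op W₂)) {z : ↥(pullback p f)}
    (h₁ : z ∈ good σ k₁ hk₁ t₁) (hzB : pullback.fst p f z ∈ B) :
    z ∈ good σ k₂ hk₂ t₂ ↔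
      pullback.fst p f z ∈ relSet _ (repSec G p k₁ hk₁ t₁) (repSec G p k₂ hk₂ t₂) := by
  haveI : Etale W₁.hom := W₁.prop
  haveI : Etale W₂.hom := W₂.prop
  obtain ⟨hzA, h₁'⟩ := h₁
  let x := pullback.fst p f z
  let C : T.Opens := A ⊓ B
  have la : C ≤ A := inf_le_left
  have lb : C ≤ B := inf_le_right
  let P : X.Etale := Scheme.Etale.mk (pullback.fst W₁.hom W₂.hom ≫ W₁.hom)
  let p₁ : P ⟶ W₁ := MorphismProperty.Over.homMk (pullback.fst W₁.hom W₂.hom) rfl trivial
  let p₂ : P ⟶ W₂ := MorphismProperty.Over.homMk (pullback.snd W₁.hom W₂.hom) pullback.condition.symm trivial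
  have hka := homOfLE_comp la p k₁ hk₁
  have hkb := homOfLE_comp lb p k₂ hk₂
  let kP : (C : Scheme.{u}) ⟶ P.left :=
    pullback.lift (T.homOfLE la ≫ k₁) (T.homOfLE lb ≫ k₂) (hka.trans hkb.symm)
  have hkP : kP ≫ P.hom = C.ι ≫ p := (pullback.lift_fst_assoc _ _ _ _).trans hka
  -- agreement below
  have hlow : x ∈ relSet _ (repSec G p k₁ hk₁ t₁) (repSec G p k₂ hk₂ t₂) ↔
      kP ⟨x, hzA, hzB⟩ ∈ agree G (G.obj.map p₁.op t₁) (G.obj.map p₂.op t₂) := by
    have r₁ : bcl p (U := openEt C) kP hkP ≫ (EtCoh.bc p).map p₁ = bcl p (U := openEt C) (T.homOfLE la ≫ k₁) hka :=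
      bcl_map p (U := openEt C) kP hkP p₁ _ hka (pullback.lift_fst _ _ _)
    have r₂ : bcl p (U := openEt C) kP hkP ≫ (EtCoh.bc p).map p₂ = bcl p (U := openEt C) (T.homOfLE lb ≫ k₂) hkb :=
      bcl_map p (U := openEt C) kP hkP p₂ _ hkb (pullback.lift_snd _ _ _)
    have hC : (⟨x, hzA, hzB⟩ : (C : Scheme.{u})) ∈ agree ((EtDesc.pullSh p).obj G) (U := openEt C)
        (((EtDesc.pullSh p).obj G).obj.map (openLE la).op (repSec G p k₁ hk₁ t₁))
        (((EtDesc.pullSh p).obj G).obj.map (openLE lb).op (repSec G p k₂ hk₂ t₂)) ↔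
        kP ⟨x, hzA, hzB⟩ ∈ agree G (G.obj.map p₁.op t₁) (G.obj.map p₂.op t₂) := by
      rw [map_openLE_repSec G p la k₁ hk₁ t₁ hka, map_openLE_repSec G p lb k₂ hk₂ t₂ hkb]
      unfold repSec
      rw [← r₁, ← r₂, op_comp, op_comp, Functor.map_comp_apply, Functor.map_comp_apply, ← pullSect_map,
        ← pullSect_map, mem_agree_map, mem_agree_pullSect]
      exact Iff.of_eq (congrArg (fun y : P.left => y ∈ agree G (G.obj.map p₁.op t₁) (G.obj.map p₂.op t₂))
        (congrArg (fun q : (C : Scheme.{u}) ⟶ P.left => q ⟨x, hzA, hzB⟩) (bcl_fst p (U := openEt C) kP hkP)))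
    refine ⟨fun h => hC.1 (agree_of_relSet (Q := openEt C) (openLE la) (openLE lb) _ h), fun h => ?_⟩
    obtain ⟨V, g, v, hv, e⟩ := hC.2 h
    refine ⟨V, g ≫ openLE la, g ≫ openLE lb, v,
      (congrArg (fun q : V.left ⟶ T => q v) (Over.w g.hom)).symm.trans (congrArg C.ι hv), ?_⟩
    rw [op_comp, op_comp, Functor.map_comp_apply, Functor.map_comp_apply]
    exact e
  -- agreement above
  let mP := mapW (f := f) kP hkP
  have hm₁ : mP ≫ ((EtCoh.bc f).map p₁).left =
      (pullback p f).homOfLE (show pullback.fst p f ⁻¹ᵁ C ≤ pullback.fst p f ⁻¹ᵁ A from fun _ hx => hx.1) ≫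
        mapW k₁ hk₁ := by
    refine pullback.hom_ext ?_ ?_
    · refine (Category.assoc _ _ _).trans ((congrArg (mP ≫ ·) (bc_map_fst f p₁)).trans ?_)
      refine (Category.assoc _ _ _).symm.trans ((congrArg (· ≫ p₁.left) (mapW_fst kP hkP)).trans ?_)
      refine (Category.assoc _ _ _).trans ?_
      rw [show kP ≫ p₁.left = T.homOfLE la ≫ k₁ from pullback.lift_fst _ _ _, Category.assoc, mapW_fst,
        ← Category.assoc, ← Category.assoc]
      congr 1
      rw [← cancel_mono A.ι, Category.assoc, Category.assoc, Scheme.homOfLE_ι, Scheme.Hom.resLE_comp_ι,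
        Scheme.Hom.resLE_comp_ι, Scheme.homOfLE_ι_assoc]
    · refine (Category.assoc _ _ _).trans ((congrArg (mP ≫ ·) (Over.w ((EtCoh.bc f).map p₁).hom)).trans ?_)
      refine (mapW_snd kP hkP).trans ?_
      rw [Category.assoc, mapW_snd, Scheme.homOfLE_ι_assoc]
  have hm₂ : mP ≫ ((EtCoh.bc f).map p₂).left =
      (pullback p f).homOfLE (show pullback.fst p f ⁻¹ᵁ C ≤ pullback.fst p f ⁻¹ᵁ B from fun _ hx => hx.2) ≫
        mapW k₂ hk₂ := by
    refine pullback.hom_ext ?_ ?_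
    · refine (Category.assoc _ _ _).trans ((congrArg (mP ≫ ·) (bc_map_fst f p₂)).trans ?_)
      refine (Category.assoc _ _ _).symm.trans ((congrArg (· ≫ p₂.left) (mapW_fst kP hkP)).trans ?_)
      refine (Category.assoc _ _ _).trans ?_
      rw [show kP ≫ p₂.left = T.homOfLE lb ≫ k₂ from pullback.lift_snd _ _ _, Category.assoc, mapW_fst,
        ← Category.assoc, ← Category.assoc]
      congr 1
      rw [← cancel_mono B.ι, Category.assoc, Category.assoc, Scheme.homOfLE_ι, Scheme.Hom.resLE_comp_ι,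
        Scheme.Hom.resLE_comp_ι, Scheme.homOfLE_ι_assoc]
    · refine (Category.assoc _ _ _).trans ((congrArg (mP ≫ ·) (Over.w ((EtCoh.bc f).map p₂).hom)).trans ?_)
      refine (mapW_snd kP hkP).trans ?_
      rw [Category.assoc, mapW_snd, Scheme.homOfLE_ι_assoc]
  let zC : ((pullback.fst p f ⁻¹ᵁ C : (pullback p f).Opens) : Scheme.{u}) := ⟨z, hzA, hzB⟩
  have e₁ : mP zC ∈ agree _ (pullSect f G (G.obj.map p₁.op t₁)) (resσ f G σ P) := by
    rw [pullSect_map, ← map_resσ f G σ p₁, mem_agree_map]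
    refine Eq.mpr (congrArg (fun y => y ∈ rep f G σ W₁ t₁)
      ((congrArg (fun q : _ ⟶ ((EtCoh.bc f).obj W₁).left => q zC) hm₁))) ?_
    rw [Scheme.Hom.comp_apply, homOfLE_pt]
    exact h₁'
  have hrep₂ : z ∈ good σ k₂ hk₂ t₂ ↔ mP zC ∈ agree _ (pullSect f G (G.obj.map p₂.op t₂)) (resσ f G σ P) := by
    rw [pullSect_map, ← map_resσ f G σ p₂, mem_agree_map]
    refine Iff.trans ⟨fun ⟨_, h⟩ => h, fun h => ⟨hzB, h⟩⟩ (Iff.of_eq ?_)
    refine Eq.trans ?_ (congrArg (fun y => y ∈ rep f G σ W₂ t₂)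
      ((congrArg (fun q : _ ⟶ ((EtCoh.bc f).obj W₂).left => q zC) hm₂))).symm
    rw [Scheme.Hom.comp_apply, homOfLE_pt]
  have hfst : pullback.fst P.hom f (mP zC) = kP ⟨x, hzA, hzB⟩ := by
    refine (congrArg (fun q : _ ⟶ P.left => q zC) (mapW_fst kP hkP)).trans ?_
    refine congrArg kP (Subtype.ext ?_)
    exact congrArg (fun q : _ ⟶ T => q zC) (Scheme.Hom.resLE_comp_ι (pullback.fst p f) (U := C) le_rfl)
  rw [hrep₂, hlow, ← hfst, ← mem_agree_pullSect]
  exact ⟨fun h => H18PBC.agree_trans _ e₁ (agree_symm _ h),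
    fun h => H18PBC.agree_trans _ (agree_symm _ h) e₁⟩

/-- Representatives exist on a cover whose étale schemes are local isomorphisms. -/
theorem exists_good (hT : SL T) (z : ↥(pullback p f)) :
    ∃ (O : T.Opens) (W : X.Etale) (k : (O : Scheme.{u}) ⟶ W.left) (hk : k ≫ W.hom = O.ι ≫ p)
      (t : G.obj.obj (op W)), z ∈ good σ k hk t := by
  let ζ := pullback.snd p f z
  obtain ⟨z₀, -⟩ := exists_fiber_over (U := EtCoh.top X) (f ζ) (geomPt ζ ≫ f) (geomPt_comp_base f ζ)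
  obtain ⟨W, g, w, t, -, hw⟩ := exists_rep_near (f := f) G (EtCoh.top X) σ (geomPt ζ) z₀
  haveI : Etale W.hom := W.prop
  let v := ptOf ((fiberCompIso f (geomPt ζ)).inv.app W w)
  have hg : g = toTop W := (EtCore.topIsTerminal X).hom_ext _ _
  have hv : v ∈ rep f G σ W t := by
    subst hg
    exact agree_symm _ hw
  have hvz : ((EtCoh.bc f).obj W).hom v = ζ :=
    ((Scheme.pointSmallEtaleFiberObjToPreimage (geomPt ζ) rfl ((fiberCompIso f (geomPt ζ)).inv.app W w)).2).trans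
      (geomPt_base ζ)
  obtain ⟨z'', hz''v, hz''z⟩ := Scheme.Pullback.exists_preimage_pullback
    (f := ((EtCoh.bc f).obj W).hom) (g := pullback.snd p f) v z hvz
  have hcond : pullback.fst ((EtCoh.bc f).obj W).hom (pullback.snd p f) ≫ pullback.fst W.hom f ≫ W.hom =
      (pullback.snd ((EtCoh.bc f).obj W).hom (pullback.snd p f) ≫ pullback.fst p f) ≫ p := by
    rw [Category.assoc, pullback.condition, pullback.condition (f := p) (g := f)]
    exact (Category.assoc _ _ _).symm.trans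
      ((congrArg (· ≫ f) (pullback.condition (f := ((EtCoh.bc f).obj W).hom) (g := pullback.snd p f))).trans
        (Category.assoc _ _ _))
  let ψ : pullback ((EtCoh.bc f).obj W).hom (pullback.snd p f) ⟶ pullback W.hom p :=
    pullback.lift (pullback.fst _ _ ≫ pullback.fst W.hom f) (pullback.snd _ _ ≫ pullback.fst p f)
      ((Category.assoc _ _ _).trans hcond)
  obtain ⟨O, h, hopen, he, ⟨y, hy⟩⟩ := hT (pullback W.hom p) (pullback.snd W.hom p) inferInstance (ψ z'')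
  haveI := hopen
  let k : (O : Scheme.{u}) ⟶ W.left := h ≫ pullback.fst W.hom p
  have hk : k ≫ W.hom = O.ι ≫ p := by
    rw [Category.assoc, pullback.condition, ← Category.assoc, he]
  obtain ⟨q, hq₁, -⟩ := Scheme.Pullback.exists_preimage_pullback (f := ψ) (g := h) z'' y hy.symm
  let r : pullback ψ h ⟶ pullback p f := pullback.fst ψ h ≫ pullback.snd _ _
  have hr : r ≫ pullback.fst p f = pullback.snd ψ h ≫ O.ι := by
    rw [← he, ← Category.assoc (pullback.snd ψ h), ← pullback.condition, Category.assoc, Category.assoc]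
    congr 1
    exact (pullback.lift_snd _ _ _).symm
  have hran : Set.range r ⊆ Set.range (pullback.fst p f ⁻¹ᵁ O).ι := by
    rintro _ ⟨q', rfl⟩
    rw [Scheme.Opens.range_ι]
    show pullback.fst p f (r q') ∈ O
    rw [← Scheme.Hom.comp_apply, hr]
    exact (pullback.snd ψ h q').2
  let r' : pullback ψ h ⟶ ((pullback.fst p f ⁻¹ᵁ O : (pullback p f).Opens) : Scheme.{u}) :=
    IsOpenImmersion.lift _ r hran
  have hr' : r' ≫ (pullback.fst p f ⁻¹ᵁ O).ι = r := IsOpenImmersion.lift_fac _ _ _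
  have e : r' ≫ mapW (f := f) k hk = pullback.fst ψ h ≫ pullback.fst _ _ := by
    refine pullback.hom_ext ?_ ?_
    · rw [Category.assoc, mapW_fst, Category.assoc]
      have : r' ≫ (pullback.fst p f).resLE O (pullback.fst p f ⁻¹ᵁ O) le_rfl = pullback.snd ψ h := by
        rw [← cancel_mono O.ι, Category.assoc, Scheme.Hom.resLE_comp_ι, reassoc_of% hr', hr]
      rw [reassoc_of% this]
      simp only [k]
      rw [← Category.assoc, ← pullback.condition, Category.assoc]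
      congr 1
      exact pullback.lift_fst _ _ _
    · rw [Category.assoc, mapW_snd, reassoc_of% hr']
      simp only [r, Category.assoc]
      congr 1
      exact (pullback.condition (f := ((EtCoh.bc f).obj W).hom) (g := pullback.snd p f)).symm
  have hz : ((pullback.fst p f ⁻¹ᵁ O).ι (r' q)) = z := by
    rw [← Scheme.Hom.comp_apply, hr']
    show pullback.snd ((EtCoh.bc f).obj W).hom (pullback.snd p f) (pullback.fst ψ h q) = z
    rw [hq₁, hz''z]
  refine ⟨O, W, k, hk, t, hz ▸ ⟨(r' q).2, ?_⟩⟩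
  show mapW k hk (r' q) ∈ _
  rw [← Scheme.Hom.comp_apply, e, Scheme.Hom.comp_apply, hq₁]
  exact hz''v.symm ▸ hv

end Groth.Agent.H11Rig
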