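import Groth.Agent.H11Rig.Approx
import Groth.Agent.H11Rig.ProjPoint
import Groth.Agent.H9Hens.ProperPair
import Groth.Agent.H27Weil.Geometry

/-!
# Descent of clopen subsets of `D(IB)` through a henselian couple
-/

set_option autoImplicit false
set_option linter.style.haveILetI false
universe u

namespace Groth.Agent.H11Rig

open CategoryTheory AlgebraicGeometry MvPolynomial CohB1

variable {A B : Type u} [CommRing A] [CommRing B]

theorem exists_dvd_all {W : Type*} [CommRing W] [IsDomain W] [ValuationRing W] {ι : Type*} [Fintype ι]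
    [Nonempty ι] (x : ι → W) : ∃ l, ∀ l', x l ∣ x l' := by
  classical
  suffices ∀ s : Finset ι, s.Nonempty → ∃ l ∈ s, ∀ l' ∈ s, x l ∣ x l' by
    obtain ⟨l, -, hl⟩ := this _ Finset.univ_nonempty
    exact ⟨l, fun l' => hl l' (Finset.mem_univ _)⟩
  intro s hs
  induction hs using Finset.Nonempty.cons_induction with
  | singleton a => exact ⟨a, by simp, by simp⟩
  | cons a s ha hs ih =>
    obtain ⟨l, hl, hlall⟩ := ih
    rcases ValuationRing.dvd_total (x a) (x l) with h1 | h1
    · exact ⟨a, Finset.mem_cons_self a s, fun l' hl' => (Finset.mem_cons.1 hl').elim (fun e => e ▸ dvd_rfl)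
        fun h2 => h1.trans (hlall l' h2)⟩
    · exact ⟨l, Finset.mem_cons.2 (Or.inr hl), fun l' hl' => (Finset.mem_cons.1 hl').elim (fun e => e ▸ h1)
        (hlall l')⟩

theorem exists_homog_eval {N : ℕ} (v : Fin (N + 1) → A) :
    ∀ (k : ℕ) (x : A), x ∈ Ideal.span (Set.range v) ^ k → ∃ g ∈ polyGrading N A k, eval v g = x := by
  intro k
  induction k with
  | zero => exact fun x _ => ⟨C x, isHomogeneous_C _ x, eval_C x⟩
  | succ k ih =>
    intro x hx
    rw [pow_succ] at hx
    refine Submodule.mul_induction_on hx (fun y hy z hz => ?_) fun y z ⟨g, hg, hgy⟩ ⟨g', hg', hgz⟩ =>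
      ⟨g + g', Submodule.add_mem _ hg hg', by rw [map_add, hgy, hgz]⟩
    obtain ⟨g, hg, hgy⟩ := ih y hy
    obtain ⟨c, hc⟩ := Ideal.mem_span_range_iff_exists_fun.1 hz
    refine ⟨g * ∑ l, C (c l) * X l, SetLike.mul_mem_graded hg (Submodule.sum_mem _ fun l _ => ?_), ?_⟩
    · rw [← smul_eq_C_mul]; exact Submodule.smul_mem _ _ (H11Proj.ProjSpace.X_mem N A l)
    · simp [hgy, ← hc]

theorem eval₂Hom_comp_eval {R : Type u} [CommRing R] {N : ℕ} (u : A →+* R) (v : Fin (N + 1) → A)
    (h : MvPolynomial (Fin (N + 1)) A) : eval₂Hom u (fun l => u (v l)) h = u (eval v h) := by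
  have : eval₂Hom u (fun l => u (v l)) = u.comp (eval v) := MvPolynomial.ringHom_ext (by simp) (by simp)
  rw [this]; rfl

theorem eval₂Hom_scale {R : Type u} [CommRing R] {N : ℕ} (u : A →+* R) (g : R) (w : Fin (N + 1) → R) {d : ℕ}
    {h : MvPolynomial (Fin (N + 1)) A} (hh : h ∈ polyGrading N A d) :
    eval₂Hom u (fun l => g * w l) h = g ^ d * eval₂Hom u w h := by
  have e := congrArg (Polynomial.evalRingHom g) (evalT_homog u w hh)
  have : (Polynomial.evalRingHom g).comp (evalT u w) = eval₂Hom u (fun l => g * w l) :=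
    MvPolynomial.ringHom_ext
      (fun a => by simp only [RingHom.comp_apply, evalT, eval₂Hom_C, Polynomial.coe_evalRingHom, Polynomial.eval_C])
      (fun l => by
        simp only [RingHom.comp_apply, evalT, eval₂Hom_X', Polynomial.coe_evalRingHom, Polynomial.eval_mul,
          Polynomial.eval_C, Polynomial.eval_X]
        exact mul_comm _ _)
  rw [← RingHom.comp_apply, this] at e
  rw [e, map_mul, map_pow, Polynomial.coe_evalRingHom, Polynomial.eval_C, Polynomial.eval_X, mul_comm]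

/-- Clopens of `D(IB)` descend to `D(I)`. -/
theorem exists_clopen_D {φ : A →+* B} {I : Ideal A} [HenselianRing A I] (h : Trunc φ I) (hI : I.FG)
    {S : Set (PrimeSpectrum B)} (hS : IsOpen S) (hS' : IsOpen {P | ¬ I.map φ ≤ P.asIdeal ∧ P ∉ S}) :
    ∃ V : Set (PrimeSpectrum A), V ⊆ {p | ¬ I ≤ p.asIdeal} ∧ IsOpen V ∧
      IsOpen {p | ¬ I ≤ p.asIdeal ∧ p ∉ V} ∧
      ∀ P : PrimeSpectrum B, ¬ I.map φ ≤ P.asIdeal → (PrimeSpectrum.comap φ P ∈ V ↔ P ∈ S) := by
  classical
  obtain ⟨r, f₀, hf₀⟩ := Submodule.fg_iff_exists_fin_generating_family.1 hI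
  have hf : I = Ideal.span (Set.range (Fin.cons 0 f₀ : Fin (r + 1) → A)) := by
    rw [Fin.range_cons, Ideal.span, Submodule.span_insert_zero, hf₀]
  obtain ⟨M, F, a, hM, hmemI, hrad, hsq, hcross, hcong⟩ := exists_approx h _ hf hS hS'
  set J := Ideal.span (Set.range F) with hJ
  -- coordinates
  let N : ℕ := r + (r + 1)
  let e : Fin (r + 1) ⊕ Fin (r + 1) ≃ Fin (N + 1) := finSumFinEquiv.trans (finCongr (by omega))
  let v : Fin (N + 1) → A := fun l => Sum.elim F a (e.symm l)
  have hvI : ∀ l, v l ∈ I := fun l => by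
    change Sum.elim F a (e.symm l) ∈ I
    rcases e.symm l with i | i
    exacts [(hmemI i).1, (hmemI i).2]
  have hvF : ∀ i, v (e (Sum.inl i)) = F i := fun i => by simp [v]
  have hva : ∀ i, v (e (Sum.inr i)) = a i := fun i => by simp [v]
  let XF : Fin (r + 1) → MvPolynomial (Fin (N + 1)) A := fun i => X (e (Sum.inl i))
  let XA : Fin (r + 1) → MvPolynomial (Fin (N + 1)) A := fun i => X (e (Sum.inr i))
  have hXF : ∀ i, XF i ∈ polyGrading N A 1 := fun i => H11Proj.ProjSpace.X_mem N A _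
  have hXA : ∀ i, XA i ∈ polyGrading N A 1 := fun i => H11Proj.ProjSpace.X_mem N A _
  have hJv : J ≤ Ideal.span (Set.range v) := by
    rw [hJ, Ideal.span_le]; rintro _ ⟨i, rfl⟩; rw [← hvF i]; exact Ideal.subset_span ⟨_, rfl⟩
  let D : Set (PrimeSpectrum A) := {p | ¬ I ≤ p.asIdeal}
  have hD : IsOpen D := (PrimeSpectrum.isClosed_zeroLocus (I : Set A)).isOpen_compl
  have hne : ∀ (p : PrimeSpectrum A), ¬ I ≤ p.asIdeal → ∃ i, F i ∉ p.asIdeal := fun p hp => by
    by_contra! hc
    exact hp (hrad.trans (p.isPrime.radical_le_iff.2 (Ideal.span_le.2 (Set.range_subset_iff.2 hc))))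
  -- the map to projective space
  have hw : ∀ p : D, ∃ l, Ideal.Quotient.mk p.1.asIdeal (v l) ≠ 0 := fun p => by
    obtain ⟨i, hi⟩ := hne p.1 p.2
    exact ⟨e (Sum.inl i), by rw [Ne, Ideal.Quotient.eq_zero_iff_mem, hvF]; exact hi⟩
  let γ : D → (Proj (polyGrading N A)) := fun p =>
    pt (Ideal.Quotient.mk p.1.asIdeal) (fun l => Ideal.Quotient.mk p.1.asIdeal (v l)) (hw p)
  have hγ : ∀ (p : D) (q : MvPolynomial (Fin (N + 1)) A) (d : ℕ), q ∈ polyGrading N A d →
      (q ∈ (γ p).asHomogeneousIdeal ↔ eval v q ∈ p.1.asIdeal) := fun p q d hq => by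
    rw [mem_pt_iff hq, eval₂Hom_comp_eval, Ideal.Quotient.eq_zero_iff_mem]
  have hγc : Continuous γ := by
    refine (ProjectiveSpectrum.isTopologicalBasis_basic_opens (polyGrading N A)).continuous_iff.2 ?_
    rintro _ ⟨q, rfl⟩
    have : γ ⁻¹' ((ProjectiveSpectrum.basicOpen (polyGrading N A) q).1) =
        ⋃ d, Subtype.val ⁻¹' (PrimeSpectrum.basicOpen (eval v (homogeneousComponent d q)) : Set (PrimeSpectrum A)) := by
      ext p
      simp only [Set.mem_preimage, Set.mem_iUnion]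
      change q ∉ (γ p).asHomogeneousIdeal ↔ ∃ d, eval v (homogeneousComponent d q) ∉ p.1.asIdeal
      rw [show (q ∈ (γ p).asHomogeneousIdeal) = _ from propext (mem_pt_iff_forall (hw := hw p))]
      push Not
      simp only [eval₂Hom_comp_eval, ne_eq, Ideal.Quotient.eq_zero_iff_mem]
    change IsOpen (γ ⁻¹' ((ProjectiveSpectrum.basicOpen (polyGrading N A) q).1))
    rw [this]
    exact isOpen_iUnion fun d => (PrimeSpectrum.basicOpen _).isOpen.preimage continuous_subtype_val
  -- homogeneous forms vanishing on the closure of the image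
  let Z : Set (Proj (polyGrading N A)) := closure (Set.range γ)
  have hZ : ∀ q d, q ∈ polyGrading N A d → eval v q = 0 → ∀ x ∈ Z, q ∈ x.asHomogeneousIdeal := by
    intro q d hq h0 x hx
    have : Set.range γ ⊆ ProjectiveSpectrum.zeroLocus (polyGrading N A) {q} := by
      rintro _ ⟨p, rfl⟩ q' hq'
      cases hq'
      exact (hγ p q d hq).2 (h0 ▸ zero_mem _)
    exact closure_minimal this (ProjectiveSpectrum.isClosed_zeroLocus _ _) hx rfl
  have hres : ∀ R, R ∈ polyGrading N A 2 → eval v R ^ M ∈ J ^ (3 * M) →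
      ∀ x ∈ Z, I ≤ ((CohB1.ProjSpace.toSpec N A).base x).asIdeal → R ∈ x.asHomogeneousIdeal := by
    intro R hR hRJ x hx hxI
    obtain ⟨g, hg, hgv⟩ := exists_homog_eval v _ _ (Ideal.pow_right_mono hJv _ hRJ)
    obtain ⟨l, hl⟩ : ∃ l, (X l : MvPolynomial (Fin (N + 1)) A) ∉ x.asHomogeneousIdeal := by
      by_contra! hc
      exact x.not_irrelevant_le ((H11Proj.ProjSpace.irrelevant_le_span N A).trans
        (Ideal.span_le.2 (Set.range_subset_iff.2 hc)))
    have hd1 : R ^ M * X l ^ M ∈ polyGrading N A (3 * M) := by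
      have := SetLike.mul_mem_graded (SetLike.pow_mem_graded M hR) (SetLike.pow_mem_graded M (H11Proj.ProjSpace.X_mem N A l))
      rwa [show M • 2 + M • 1 = 3 * M by simp; omega] at this
    have hd2 : C (v l ^ M) * g ∈ polyGrading N A (3 * M) := by
      rw [← smul_eq_C_mul]; exact Submodule.smul_mem _ _ hg
    have := hZ _ _ (Submodule.sub_mem _ hd1 hd2) (by simp [hgv]; ring) x hx
    have hv : (C (v l ^ M) : MvPolynomial (Fin (N + 1)) A) * g ∈ x.asHomogeneousIdeal.toIdeal :=
      Ideal.mul_mem_right _ _ ((mem_toSpec_iff x _).1 (Ideal.pow_mem_of_mem _ (hxI (hvI l)) _ hM))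
    have h2 : R ^ M * X l ^ M ∈ x.asHomogeneousIdeal.toIdeal := by simpa using add_mem this hv
    rcases x.isPrime.mem_or_mem h2 with h3 | h3
    · exact x.isPrime.mem_of_pow_mem M h3
    · exact absurd (x.isPrime.mem_of_pow_mem M h3) hl
  have hor : ∀ x ∈ Z, I ≤ ((CohB1.ProjSpace.toSpec N A).base x).asIdeal →
      (¬ (∀ i, XA i ∈ x.asHomogeneousIdeal.toIdeal) ↔ ∀ i, XA i - XF i ∈ x.asHomogeneousIdeal.toIdeal) := by
    intro x hx hxI
    have h1 : ∀ i, XA i * (XA i - XF i) ∈ x.asHomogeneousIdeal.toIdeal := fun i =>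
      hres _ (SetLike.mul_mem_graded (hXA i) (Submodule.sub_mem _ (hXA i) (hXF i))) (by
        have := hsq i
        rw [show a i * a i - F i * a i = a i * (a i - F i) by ring] at this
        simpa [XA, XF, hva, hvF] using this) x hx hxI
    have h2 : ∀ i j, XA i * XF j - XA j * XF i ∈ x.asHomogeneousIdeal.toIdeal := fun i j =>
      hres _ (Submodule.sub_mem _ (SetLike.mul_mem_graded (hXA i) (hXF j)) (SetLike.mul_mem_graded (hXA j) (hXF i)))
        (by simpa [XA, XF, hva, hvF] using hcross i j) x hx hxI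
    obtain ⟨j, hj⟩ : ∃ j, XF j ∉ x.asHomogeneousIdeal.toIdeal := by
      by_contra! hc
      have hA : ∀ i, XA i ∈ x.asHomogeneousIdeal.toIdeal := fun i => by
        rcases x.isPrime.mem_or_mem (h1 i) with h3 | h3
        · exact h3
        · simpa using add_mem h3 (hc i)
      refine x.not_irrelevant_le ((H11Proj.ProjSpace.irrelevant_le_span N A).trans (Ideal.span_le.2 ?_))
      rintro _ ⟨l, rfl⟩
      obtain ⟨i | i, rfl⟩ := e.surjective l
      exacts [hc i, hA i]
    constructor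
    · intro hnA
      have hjA : XA j ∉ x.asHomogeneousIdeal.toIdeal := fun hjA => hnA fun i => by
        have : XA i * XF j ∈ x.asHomogeneousIdeal.toIdeal := by
          simpa using add_mem (h2 i j) (Ideal.mul_mem_right (XF i) _ hjA)
        exact (x.isPrime.mem_or_mem this).resolve_right hj
      have hj' : XA j - XF j ∈ x.asHomogeneousIdeal.toIdeal := (x.isPrime.mem_or_mem (h1 j)).resolve_left hjA
      intro i
      have : (XA i - XF i) * XF j ∈ x.asHomogeneousIdeal.toIdeal := by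
        have := add_mem (h2 i j) (Ideal.mul_mem_right (XF i) _ hj')
        rwa [show XA i * XF j - XA j * XF i + (XA j - XF j) * XF i = (XA i - XF i) * XF j by ring] at this
      exact (x.isPrime.mem_or_mem this).resolve_right hj
    · intro hE hA
      exact hj (by simpa using sub_mem (hA j) (hE j))
  -- the proper scheme
  let 𝒳 := (Scheme.IdealSheafData.vanishingIdeal (X := Proj (polyGrading N A)) ⟨Z, isClosed_closure⟩).subscheme
  let ι : 𝒳 ⟶ CohB1.ProjSpace N A :=
    (Scheme.IdealSheafData.vanishingIdeal (X := Proj (polyGrading N A)) ⟨Z, isClosed_closure⟩).subschemeι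
  have hrange : Set.range ι.base = Z := by
    exact (Scheme.IdealSheafData.range_subschemeι _).trans
      ((Scheme.IdealSheafData.coe_support_vanishingIdeal _).trans rfl)
  haveI : IsProper (CohB1.ProjSpace.toSpec N A) := H27Weil.isProper_toSpec N A
  haveI : IsClosedImmersion ι := inferInstanceAs (IsClosedImmersion (Scheme.IdealSheafData.subschemeι _))
  haveI : IsProper ι := inferInstance
  let π : 𝒳 ⟶ Spec (CommRingCat.of A) := ι ≫ CohB1.ProjSpace.toSpec N A
  haveI : IsProper π := inferInstanceAs (IsProper (ι ≫ CohB1.ProjSpace.toSpec N A))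
  let E : Set ↥(π.base ⁻¹' PrimeSpectrum.zeroLocus (I : Set A)) :=
    {y | ∀ i, XA i - XF i ∈ (ι.base y.1).asHomogeneousIdeal.toIdeal}
  have hclosed : ∀ q : MvPolynomial (Fin (N + 1)) A,
      IsClosed {y : ↥(π.base ⁻¹' PrimeSpectrum.zeroLocus (I : Set A)) | q ∈ (ι.base y.1).asHomogeneousIdeal.toIdeal} := by
    intro q
    have := ((ProjectiveSpectrum.isClosed_zeroLocus (polyGrading N A) {q}).preimage ι.continuous).preimage
      (continuous_subtype_val (p := fun y => y ∈ π.base ⁻¹' PrimeSpectrum.zeroLocus (I : Set A)))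
    convert this using 1
    ext y
    exact (Set.singleton_subset_iff (a := q)).symm
  have hE : IsClopen E := by
    refine ⟨?_, ?_⟩
    · rw [show E = ⋂ i, {y | XA i - XF i ∈ (ι.base y.1).asHomogeneousIdeal.toIdeal} by ext; simp [E]]
      exact isClosed_iInter fun i => hclosed _
    · rw [show E = (⋂ i, {y : ↥(π.base ⁻¹' PrimeSpectrum.zeroLocus (I : Set A)) |
        XA i ∈ (ι.base y.1).asHomogeneousIdeal.toIdeal})ᶜ by
          ext y
          have := hor _ (hrange ▸ Set.mem_range_self y.1) y.2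
          simp only [Set.mem_compl_iff, Set.mem_iInter, Set.mem_ofPred_eq]
          exact this.symm]
      exact (isClosed_iInter fun i => hclosed _).isOpen_compl
  obtain ⟨U, ⟨hU, hUE⟩, -⟩ := H9Hens.ProperPair.uniqueLift_proper I π E hE
  have hex : ∀ p : D, ∃ y, ι.base y = γ p := fun p => by
    have : γ p ∈ Set.range ι.base := hrange ▸ subset_closure (Set.mem_range_self p)
    exact this
  choose γ' hγ' using hex
  have hγ'c : Continuous γ' := by
    rw [ι.isClosedEmbedding.isEmbedding.continuous_iff]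
    exact hγc.congr fun p => (hγ' p).symm
  refine ⟨Subtype.val '' (γ' ⁻¹' U), by rintro _ ⟨p, -, rfl⟩; exact p.2,
    hD.isOpenMap_subtype_val _ (hU.2.preimage hγ'c), ?_, fun P hP => ?_⟩
  · have : {p | ¬ I ≤ p.asIdeal ∧ p ∉ Subtype.val '' (γ' ⁻¹' U)} = Subtype.val '' (γ' ⁻¹' U)ᶜ := by
      ext p
      constructor
      · rintro ⟨hp, hpU⟩
        exact ⟨⟨p, hp⟩, fun hin => hpU ⟨_, hin, rfl⟩, rfl⟩
      · rintro ⟨p, hp, rfl⟩
        exact ⟨p.2, fun ⟨p', hp', e'⟩ => hp (Subtype.ext e' ▸ hp')⟩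
    rw [this]
    exact hD.isOpenMap_subtype_val _ (hU.1.preimage hγ'c).isOpen_compl
  -- the point over the closed fibre
  have hp0 : ¬ I ≤ (PrimeSpectrum.comap φ P).asIdeal := fun hle => hP (Ideal.map_le_iff_le_comap.2 hle)
  obtain ⟨m, hm, hPm⟩ := Ideal.exists_le_maximal P.asIdeal P.isPrime.ne_top
  have hIm : I.map φ ≤ m := h.jac.trans (sInf_le ⟨bot_le, hm⟩)
  haveI : (m.map (Ideal.Quotient.mk P.asIdeal)).IsPrime :=
    Ideal.map_isPrime_of_surjective Ideal.Quotient.mk_surjective (by rwa [Ideal.mk_ker])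
  obtain ⟨W, hW⟩ := H11Val.exists_valuationSubring_center
    (algebraMap (B ⧸ P.asIdeal) (FractionRing (B ⧸ P.asIdeal))) (IsFractionRing.injective _ _)
    (m.map (Ideal.Quotient.mk P.asIdeal))
  let gB : B →+* W := ((algebraMap (B ⧸ P.asIdeal) (FractionRing (B ⧸ P.asIdeal))).comp
    (Ideal.Quotient.mk P.asIdeal)).codRestrict W fun b => (hW _).1
  have hg0 : ∀ b, gB b = 0 ↔ b ∈ P.asIdeal := fun b => by
    rw [← Ideal.Quotient.eq_zero_iff_mem, ← map_eq_zero_iff _ (IsFractionRing.injective (B ⧸ P.asIdeal) (FractionRing (B ⧸ P.asIdeal)))]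
    exact Subtype.ext_iff
  have hgm : ∀ b ∈ m, gB b ∈ IsLocalRing.maximalIdeal W := fun b hb => by
    rw [W.valuation_lt_one_iff]
    exact ((hW (Ideal.Quotient.mk _ b)).2).1 (Ideal.mem_map_of_mem _ hb)
  let uW : A →+* W := gB.comp φ
  obtain ⟨l₀, hl₀⟩ := exists_dvd_all fun l => uW (v l)
  choose w hw' using fun l => hl₀ l
  have hne0 : uW (v l₀) ≠ 0 := fun h0 => by
    obtain ⟨i, hi⟩ := hne _ hp0
    refine hi ((hg0 _).1 ?_)
    have := hw' (e (Sum.inl i))
    rw [hvF, h0, zero_mul] at this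
    exact this
  have hg : uW (v l₀) ∈ IsLocalRing.maximalIdeal W := hgm _ (hIm (Ideal.mem_map_of_mem φ (hvI l₀)))
  have hw0 : w l₀ = 1 := mul_left_cancel₀ hne0 (by rw [← hw', mul_one])
  let ū : A →+* IsLocalRing.ResidueField W := (IsLocalRing.residue W).comp uW
  let x : Proj (polyGrading N A) := pt ū (fun l => IsLocalRing.residue W (w l)) ⟨l₀, by rw [hw0, map_one]; exact one_ne_zero⟩
  let p₀ : D := ⟨PrimeSpectrum.comap φ P, hp0⟩
  have hspec : γ p₀ ⤳ x := pt_specializes fun d q hq h0 => by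
    rw [eval₂Hom_comp_eval, Ideal.Quotient.eq_zero_iff_mem] at h0
    have h1 : eval₂Hom uW (fun l => uW (v l)) q = 0 := by
      rw [eval₂Hom_comp_eval]; exact (hg0 _).2 h0
    rw [show (fun l => uW (v l)) = fun l => uW (v l₀) * w l from funext hw', eval₂Hom_scale _ _ _ hq,
      mul_eq_zero, or_iff_right (pow_ne_zero _ hne0)] at h1
    have := MvPolynomial.map_eval₂Hom uW w (IsLocalRing.residue W) q
    rw [h1, map_zero] at this
    exact this.symm
  have hxZ : x ∈ Z := isClosed_closure.stableUnderSpecialization hspec (subset_closure (Set.mem_range_self p₀))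
  obtain ⟨y, hy⟩ : x ∈ Set.range ι.base := hrange.symm ▸ hxZ
  have hyI : y ∈ π.base ⁻¹' PrimeSpectrum.zeroLocus (I : Set A) := fun b hb => by
    change b ∈ ((CohB1.ProjSpace.toSpec N A).base (ι.base y)).asIdeal
    rw [hy, toSpec_pt]
    exact (IsLocalRing.residue_eq_zero_iff _).2 (hgm _ (hIm (Ideal.mem_map_of_mem φ hb)))
  have hyU : γ' p₀ ∈ U ↔ y ∈ U := by
    have hs : γ' p₀ ⤳ y := ι.isClosedEmbedding.isEmbedding.toIsInducing.specializes_iff.1 (by rw [hγ', hy]; exact hspec)
    exact ⟨fun h1 => hs.mem_closed hU.1 h1, fun h1 => hs.mem_open hU.2 h1⟩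
  have hyE : y ∈ U ↔ ∀ i, XA i - XF i ∈ x.asHomogeneousIdeal.toIdeal := by
    rw [← hy]
    exact Set.ext_iff.1 hUE ⟨y, hyI⟩
  have key : ∀ (i : Fin (r + 1)) (L : MvPolynomial (Fin (N + 1)) A), L ∈ polyGrading N A 1 →
      φ (eval v L) ∈ P.asIdeal ⊔ (J ^ (3 * M)).map φ → L ∈ x.asHomogeneousIdeal.toIdeal := by
    intro i L hL hLP
    have h1 : uW (eval v L) = uW (v l₀) * eval₂Hom uW w L := by
      rw [← eval₂Hom_comp_eval, show (fun l => uW (v l)) = fun l => uW (v l₀) * w l from funext hw',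
        eval₂Hom_scale _ _ _ hL, pow_one]
    have h2 : (P.asIdeal ⊔ (J ^ (3 * M)).map φ).map gB ≤ Ideal.span {uW (v l₀)} ^ 2 := by
      rw [Ideal.map_sup, sup_le_iff, Ideal.map_le_iff_le_comap]
      refine ⟨fun b hb => by rw [Ideal.mem_comap, (hg0 b).2 hb]; exact zero_mem _, ?_⟩
      rw [Ideal.map_map, Ideal.map_pow]
      refine le_trans (Ideal.pow_le_pow_right (by omega : 2 ≤ 3 * M)) (Ideal.pow_right_mono ?_ 2)
      rw [Ideal.map_le_iff_le_comap]
      refine hJv.trans (Ideal.span_le.2 ?_)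
      rintro _ ⟨l, rfl⟩
      rw [SetLike.mem_coe, Ideal.mem_comap, Ideal.mem_span_singleton]
      exact ⟨w l, hw' l⟩
    have h3 : uW (eval v L) ∈ Ideal.span {uW (v l₀)} ^ 2 := h2 (Ideal.mem_map_of_mem gB hLP)
    rw [h1, Ideal.span_singleton_pow, Ideal.mem_span_singleton, pow_two, mul_dvd_mul_iff_left hne0] at h3
    refine (mem_pt_iff hL).2 ?_
    have := MvPolynomial.map_eval₂Hom uW w (IsLocalRing.residue W) L
    rw [← this, IsLocalRing.residue_eq_zero_iff]
    exact Ideal.mem_of_dvd _ h3 hg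
  have hiff : PrimeSpectrum.comap φ P ∈ Subtype.val '' (γ' ⁻¹' U) ↔ γ' p₀ ∈ U :=
    ⟨fun ⟨p', hp', e'⟩ => (Subtype.ext e' : p' = p₀) ▸ hp', fun h1 => ⟨p₀, h1, rfl⟩⟩
  rw [hiff, hyU, hyE]
  constructor
  · intro hall
    by_contra hPS
    refine ((hor x hxZ ?_).2 hall) fun i => key i _ (hXA i) (by simpa [XA, hva] using (hcong i P hP).2 hPS)
    rw [← hy]; exact hyI
  · intro hPS i
    exact key i _ (Submodule.sub_mem _ (hXA i) (hXF i)) (by simpa [XA, XF, hva, hvF] using (hcong i P hP).1 hPS)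

end Groth.Agent.H11Rig
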