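import Groth.Agent.H11PBCSet.DegreeZeroSh
import Groth.Agent.H11Rig.Criterion

/-!
# The degree zero base change map on stalks, via sections over strictly henselian base changes
-/

set_option autoImplicit false
set_option linter.style.haveILetI false
set_option linter.unusedSectionVars false
set_option backward.isDefEq.respectTransparency false
set_option backward.isDefEq.respectTransparency.types false

universe u

open CategoryTheory CategoryTheory.Limits AlgebraicGeometry Opposite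
open scoped Groth.Agent.H18Et

namespace Groth.Agent.H11Rig.StalkPush

open H15Site.SetDescent H18Et H18PBC H18PBC.Fibre H18PBC.DegZero H18PBC.LimSec

section Index

variable {X Y : Scheme.{u}} {Ω : Type u} [Field Ω] [IsSepClosed Ω] (f : X ⟶ Y)
  (ξ : Spec (CommRingCat.of Ω) ⟶ Y)

theorem instances_TX' [QuasiCompact f] [QuasiSeparated f] :
    (∀ ⦃a b : Nbhd.NI ξ⦄ (g : a ⟶ b), IsAffineHom ((sch (TX f ξ)).map g)) ∧
    (∀ a, CompactSpace ((sch (TX f ξ)).obj a)) ∧ (∀ a, QuasiSeparatedSpace ((sch (TX f ξ)).obj a)) := by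
  refine ⟨fun a b g => ?_, fun a => ?_, fun a => ?_⟩
  · haveI : IsAffineHom ((Nbhd.nb ξ).map g).left := isAffineHom_of_isAffine _
    exact MorphismProperty.of_isPullback (P := @IsAffineHom) (EtCoh.isPullback_bc_map f ((Nbhd.nb ξ).map g)).flip
      inferInstance
  · haveI : CompactSpace ↥((𝟭 Scheme.{u}).obj ((Nbhd.nb ξ).obj a).left) :=
      inferInstanceAs (CompactSpace ((Nbhd.nb ξ).obj a).left)
    show CompactSpace (pullback ((Nbhd.nb ξ).obj a).hom f : Scheme.{u})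
    exact QuasiCompact.compactSpace_of_compactSpace (pullback.fst ((Nbhd.nb ξ).obj a).hom f)
  · haveI : QuasiSeparatedSpace ↥((𝟭 Scheme.{u}).obj ((Nbhd.nb ξ).obj a).left) :=
      inferInstanceAs (QuasiSeparatedSpace ((Nbhd.nb ξ).obj a).left)
    show QuasiSeparatedSpace (pullback ((Nbhd.nb ξ).obj a).hom f : Scheme.{u})
    exact quasiSeparatedSpace_of_quasiSeparated (pullback.fst ((Nbhd.nb ξ).obj a).hom f)

/-- The image of a section on an index in the sections over the strictly henselian base change. -/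
noncomputable abbrev phiX (G : EtDesc.Sh X) (i : Nbhd.NI ξ)
    (s : G.obj.obj (op ((TX f ξ).obj i))) :=
  phi (coneX f ξ) (pullback.snd (Nbhd.toBase ξ) f) (coneX_hom f ξ) G i s

/-- The germ of a section on an index. -/
noncomputable abbrev germX (G : EtDesc.Sh X) (i : Nbhd.NI ξ)
    (s : G.obj.obj (op ((TX f ξ).obj i))) :=
  germ ξ ((EtDesc.pushSh f).obj G) ((Nbhd.nb ξ).obj i) (Nbhd.zb ξ i) s

theorem germX_surjective (G : EtDesc.Sh X)
    (p : ((Scheme.pointSmallEtale ξ).sheafFiber (A := Type (u + 1))).obj ((EtDesc.pushSh f).obj G)) :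
    ∃ (i : Nbhd.NI ξ) (s : G.obj.obj (op ((TX f ξ).obj i))), germX f ξ G i s = p := by
  obtain ⟨V, z, s, rfl⟩ := germ_surjective ξ ((EtDesc.pushSh f).obj G) p
  obtain ⟨i, ⟨g, hg⟩⟩ := Nbhd.exists_index ξ ⟨V, z⟩
  exact ⟨i, _, H11PBCSet.germ_index_eq f ξ G z i g hg s⟩

theorem germX_map (G : EtDesc.Sh X) {i k : Nbhd.NI ξ} (a : k ⟶ i)
    (s : G.obj.obj (op ((TX f ξ).obj i))) :
    germX f ξ G k (G.obj.map ((TX f ξ).map a).op s) = germX f ξ G i s :=
  H11PBCSet.germ_index_eq f ξ G (Nbhd.zb ξ i) k ((Nbhd.nb ξ).map a) (Nbhd.zb_map ξ a) s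

theorem germX_eq_iff [QuasiCompact f] [QuasiSeparated f] (G : EtDesc.Sh X) (i : Nbhd.NI ξ)
    (s t : G.obj.obj (op ((TX f ξ).obj i))) :
    germX f ξ G i s = germX f ξ G i t ↔ phiX f ξ G i s = phiX f ξ G i t := by
  obtain ⟨h1, h2, h3⟩ := instances_TX' f ξ
  haveI := h1; haveI := h2; haveI := h3
  constructor
  · intro e
    obtain ⟨V, g, y, hy, he⟩ := (germ_eq_iff ξ ((EtDesc.pushSh f).obj G) _ _ s t).1 e
    obtain ⟨k, ⟨h, hh⟩⟩ := Nbhd.exists_index ξ ⟨V, y⟩
    dsimp at h hh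
    let el : (Nbhd.toEl ξ).obj k ⟶ (Nbhd.toEl ξ).obj i :=
      ⟨h ≫ g, (Functor.map_comp_apply _ _ _ _).trans ((congrArg _ hh).trans hy)⟩
    obtain ⟨a, ha⟩ := (Nbhd.toEl ξ).map_surjective el
    have ha' : (Nbhd.nb ξ).map a = h ≫ g := congrArg (fun q => q.1) ha
    rw [phiX, ← phi_map (coneX f ξ) _ (coneX_hom f ξ) G a s, phiX, ← phi_map (coneX f ξ) _ (coneX_hom f ξ) G a t]
    refine congrArg _ ?_
    show ((EtDesc.pushSh f).obj G).obj.map ((Nbhd.nb ξ).map a).op s =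
      ((EtDesc.pushSh f).obj G).obj.map ((Nbhd.nb ξ).map a).op t
    rw [ha', op_comp, Functor.map_comp_apply, Functor.map_comp_apply, he]
  · intro e
    obtain ⟨k, a, hk⟩ := (phi_bijective (coneX f ξ) _ (coneX_hom f ξ) G (isLimitConeX f ξ)).2 i s t e
    rw [← germX_map f ξ G a s, ← germX_map f ξ G a t, hk]

end Index

theorem map_pullSect_map {X Y : Scheme.{u}} (f : X ⟶ Y) (G : EtDesc.Sh Y) {U V : Y.Etale} {W : X.Etale}
    (j : W ⟶ (EtCoh.bc f).obj V) (g : V ⟶ U) (s : G.obj.obj (op U)) :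
    ((EtDesc.pullSh f).obj G).obj.map j.op (pullSect f G (G.obj.map g.op s)) =
      ((EtDesc.pullSh f).obj G).obj.map (j ≫ (EtCoh.bc f).map g).op (pullSect f G s) := by
  rw [pullSect_map, ← Functor.map_comp_apply, ← op_comp]

theorem bc3_ext {X Y T S : Scheme.{u}} (f : X ⟶ Y) (g' : S ⟶ X) (p : T ⟶ S) {V : Y.Etale} {U : T.Etale}
    {n n' : U ⟶ (EtCoh.bc p).obj ((EtCoh.bc g').obj ((EtCoh.bc f).obj V))}
    (h : ((n.left ≫ pullback.fst ((EtCoh.bc g').obj ((EtCoh.bc f).obj V)).hom p) ≫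
        pullback.fst ((EtCoh.bc f).obj V).hom g') ≫ pullback.fst V.hom f =
      ((n'.left ≫ pullback.fst ((EtCoh.bc g').obj ((EtCoh.bc f).obj V)).hom p) ≫
        pullback.fst ((EtCoh.bc f).obj V).hom g') ≫ pullback.fst V.hom f) : n = n' := by
  have hs : ∀ k : U ⟶ (EtCoh.bc p).obj ((EtCoh.bc g').obj ((EtCoh.bc f).obj V)),
      ((k.left ≫ pullback.fst ((EtCoh.bc g').obj ((EtCoh.bc f).obj V)).hom p) ≫
        pullback.fst ((EtCoh.bc f).obj V).hom g') ≫ pullback.snd V.hom f = (U.hom ≫ p) ≫ g' := fun k => by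
    refine (Category.assoc _ _ _).trans ?_
    refine (congrArg (_ ≫ ·) (pullback.condition (f := ((EtCoh.bc f).obj V).hom) (g := g'))).trans ?_
    refine (Category.assoc _ _ _).symm.trans (congrArg (· ≫ g') ?_)
    refine (Category.assoc _ _ _).trans ?_
    refine (congrArg (_ ≫ ·) (pullback.condition (f := ((EtCoh.bc g').obj ((EtCoh.bc f).obj V)).hom)
      (g := p))).trans ?_
    exact (Category.assoc _ _ _).symm.trans (congrArg (· ≫ _) (Over.w k.hom))
  exact bc_bc_hom_ext (pullback.hom_ext h ((hs n).trans (hs n').symm))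

section Compare

variable {X Y X' Y' : Scheme.{u}} (f : X ⟶ Y) (g : Y' ⟶ Y) (f' : X' ⟶ Y') (g' : X' ⟶ X)
  (w : g' ≫ f = f' ≫ g) {Ω : Type u} [Field Ω] [IsSepClosed Ω] (η : Spec (CommRingCat.of Ω) ⟶ Y')

/-- The point of the base change of an index. -/
noncomputable abbrev zbc (i : Nbhd.NI (η ≫ g)) :
    (Scheme.pointSmallEtale η).fiber.obj ((EtCoh.bc g).obj ((Nbhd.nb (η ≫ g)).obj i)) :=
  (fiberCompIso g η).inv.app _ (Nbhd.zb (η ≫ g) i)

variable (m : XA f' η ⟶ XA f (η ≫ g))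
  (hm₁ : m ≫ pullback.snd (Nbhd.toBase (η ≫ g)) f = pullback.snd (Nbhd.toBase η) f' ≫ g')
  (hm₂ : ∀ (i : Nbhd.NI (η ≫ g)) (k : Nbhd.NI η)
    (gk : (Nbhd.nb η).obj k ⟶ (EtCoh.bc g).obj ((Nbhd.nb (η ≫ g)).obj i)),
    (Scheme.pointSmallEtale η).fiber.map gk (Nbhd.zb η k) = zbc g η i →
    (m ≫ pullback.fst (Nbhd.toBase (η ≫ g)) f) ≫ (Nbhd.cone (η ≫ g)).π.app i =
      (pullback.fst (Nbhd.toBase η) f' ≫ (Nbhd.cone η).π.app k) ≫
        gk.left ≫ pullback.fst ((Nbhd.nb (η ≫ g)).obj i).hom g)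

/-- The comparison of the sections over the two strictly henselian base changes. -/
noncomputable def cmpXA (F : EtDesc.Sh X)
    (σ : ((EtDesc.pullSh (pullback.snd (Nbhd.toBase (η ≫ g)) f)).obj F).obj.obj
      (op ((EtCoh.bc (pullback.snd (Nbhd.toBase (η ≫ g)) f)).obj (EtCoh.top X)))) :
    ((EtDesc.pullSh (pullback.snd (Nbhd.toBase η) f')).obj ((EtDesc.pullSh g').obj F)).obj.obj
      (op ((EtCoh.bc (pullback.snd (Nbhd.toBase η) f')).obj (EtCoh.top X'))) :=
  (EtDesc.pullVia (pullback.snd (Nbhd.toBase η) f') g' _ rfl F).inv.hom.app _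
    (((EtDesc.pullSh (pullback.snd (Nbhd.toBase η) f' ≫ g')).obj F).obj.map
      ((EtCore.bcTopIsTerminal (pullback.snd (Nbhd.toBase η) f' ≫ g')).from
        ((EtCoh.bc (pullback.snd (Nbhd.toBase η) f')).obj (EtCoh.top X'))).op
      (transfer m (pullback.snd (Nbhd.toBase (η ≫ g)) f) (pullback.snd (Nbhd.toBase η) f' ≫ g') hm₁ F
        (EtCoh.top X) σ))

include hm₁ in
theorem cmpXA_bijective (hC : CPI m) [QuasiCompact f] [QuasiSeparated f] [QuasiCompact f'] (F : EtDesc.Sh X) :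
    Function.Bijective (cmpXA f g f' g' η m hm₁ F) := by
  let b := pullback.snd (Nbhd.toBase η) f' ≫ g'
  have h2 : Function.Bijective ((EtDesc.pullVia (pullback.snd (Nbhd.toBase η) f') g' _ rfl F).inv.hom.app
      (op ((EtCoh.bc (pullback.snd (Nbhd.toBase η) f')).obj (EtCoh.top X')))) :=
    (isIso_iff_bijective _).1 (inferInstance :
      IsIso (((sheafToPresheaf _ _).map (EtDesc.pullVia (pullback.snd (Nbhd.toBase η) f') g' _ rfl F).inv).app
        (op ((EtCoh.bc (pullback.snd (Nbhd.toBase η) f')).obj (EtCoh.top X')))))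
  let θ : (EtCoh.bc (pullback.snd (Nbhd.toBase η) f')).obj (EtCoh.top X') ≅ (EtCoh.bc b).obj (EtCoh.top X) :=
    (EtCore.bcTopIsTerminal _).uniqueUpToIso (EtCore.bcTopIsTerminal _)
  have h3 := bijective_map_iso ((EtDesc.pullSh b).obj F).obj θ
  haveI : CompactSpace (XA f (η ≫ g)) :=
    QuasiCompact.compactSpace_of_compactSpace (pullback.fst (Nbhd.toBase (η ≫ g)) f)
  haveI : QuasiSeparatedSpace (XA f (η ≫ g)) :=
    quasiSeparatedSpace_of_quasiSeparated (pullback.fst (Nbhd.toBase (η ≫ g)) f)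
  haveI : CompactSpace (XA f' η) :=
    QuasiCompact.compactSpace_of_compactSpace (pullback.fst (Nbhd.toBase η) f')
  have h4 := bijective_transfer m (pullback.snd (Nbhd.toBase (η ≫ g)) f) b hm₁ F
    ⟨pullSect_top_injective hC _, pullSect_top_surjective hC _⟩
  exact h2.comp (h3.comp h4)

include hm₁ hm₂ in
set_option maxHeartbeats 1000000 in
theorem phiX_baseChange0Sh (F : EtDesc.Sh X) (i : Nbhd.NI (η ≫ g)) (k : Nbhd.NI η)
    (gk : (Nbhd.nb η).obj k ⟶ (EtCoh.bc g).obj ((Nbhd.nb (η ≫ g)).obj i))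
    (hgk : (Scheme.pointSmallEtale η).fiber.map gk (Nbhd.zb η k) = zbc g η i)
    (s : F.obj.obj (op ((TX f (η ≫ g)).obj i))) :
    phiX f' η ((EtDesc.pullSh g').obj F) k
      (((EtDesc.pullSh g').obj F).obj.map ((EtCoh.bc f').map gk).op
        (((EtDesc.pullSh g').obj F).obj.map (cMap f g f' g' w ((Nbhd.nb (η ≫ g)).obj i)).op
          (pullSect g' F s))) = cmpXA f g f' g' η m hm₁ F (phiX f (η ≫ g) F i s) := by
  let V := (Nbhd.nb (η ≫ g)).obj i
  let a := pullback.snd (Nbhd.toBase (η ≫ g)) f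
  let a' := pullback.snd (Nbhd.toBase η) f'
  let b := a' ≫ g'
  let β : XA f' η ⟶ ((EtCoh.bc f).obj V).left := m ≫ prj (coneX f (η ≫ g)) i
  have hβ : β ≫ ((EtCoh.bc f).obj V).hom = b :=
    (Category.assoc _ _ _).trans ((congrArg (m ≫ ·) (coneX_hom f (η ≫ g) i)).trans hm₁)
  let jb : (EtCoh.bc b).obj (EtCoh.top X) ⟶ (EtCoh.bc b).obj ((EtCoh.bc f).obj V) :=
    MorphismProperty.Over.homMk (pullback.lift (((EtCoh.bc b).obj (EtCoh.top X)).hom ≫ β)
      ((EtCoh.bc b).obj (EtCoh.top X)).hom ((Category.assoc _ _ _).trans (congrArg (_ ≫ ·) hβ)))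
      (pullback.lift_snd _ _ _) trivial
  let θ := (EtCore.bcTopIsTerminal b).from ((EtCoh.bc a').obj (EtCoh.top X'))
  have hT : transfer m a b hm₁ F (EtCoh.top X) (phiX f (η ≫ g) F i s) =
      ((EtDesc.pullSh b).obj F).obj.map jb.op (pullSect b F s) := by
    refine (transfer_map_compat m a b hm₁ F (iT (coneX f (η ≫ g)) a (coneX_hom f (η ≫ g)) i) jb ?_ _).trans
      (congrArg _ (transfer_pullSect m a b hm₁ F s))
    exact compat_of_graph m a b hm₁ _ _ (prj (coneX f (η ≫ g)) i) β (pullback.lift_fst _ _ _)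
      (pullback.lift_fst _ _ _) rfl
  unfold phiX phi cmpXA
  refine (map_pullSect_map a' _ _ _ _).trans ((map_pullSect_map a' _ _ _ _).trans ?_)
  refine Eq.trans ?_ (congrArg (fun x => (EtDesc.pullVia _ _ _ rfl F).inv.hom.app _
      (((EtDesc.pullSh b).obj F).obj.map θ.op x)) hT.symm)
  refine Eq.trans ?_ (congrArg (fun x => (EtDesc.pullVia _ _ _ rfl F).inv.hom.app _ x)
    (Functor.map_comp_apply ((EtDesc.pullSh b).obj F).obj jb.op θ.op (pullSect b F s)))
  rw [← op_comp]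
  refine map_pullSect_pullSect a' g' b rfl F _ (θ ≫ jb) ?_ s
  refine bc3_ext f g' a' ?_
  let iX' := iT (coneX f' η) a' (coneX_hom f' η) k
  show ((((θ ≫ jb).left ≫ (tm a' g' b rfl ((EtCoh.bc f).obj V)).left) ≫ pullback.fst _ _) ≫
      pullback.fst _ _) ≫ pullback.fst V.hom f =
    ((((iX'.left ≫ ((EtCoh.bc a').map ((EtCoh.bc f').map gk)).left) ≫
      ((EtCoh.bc a').map (cMap f g f' g' w V)).left) ≫ pullback.fst _ _) ≫
      pullback.fst _ _) ≫ pullback.fst V.hom f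
  refine Eq.trans (congrArg (· ≫ pullback.fst V.hom f) ((Category.assoc _ _ _).trans
    ((Category.assoc _ _ _).trans ((congrArg (_ ≫ ·) ((Category.assoc _ _ _).symm.trans
      (tm_fst_fst _ _ _ _ _))).trans ((Category.assoc _ _ _).trans (congrArg (θ.left ≫ ·) (pullback.lift_fst _ _ _))))))) ?_
  refine Eq.trans ?_ (Eq.symm ((congrArg (fun q => (q ≫ pullback.fst _ _) ≫ pullback.fst V.hom f)
    ((Category.assoc _ _ _).trans ((congrArg (_ ≫ ·) (bc_map_fst _ (cMap f g f' g' w V))).trans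
      (Category.assoc _ _ _).symm))).trans ((Category.assoc _ _ _).trans ((Category.assoc _ _ _).trans
        (congrArg (_ ≫ ·) (cMap_fst_fst f g f' g' w V))))))
  refine Eq.trans ?_ (congrArg (fun q => q ≫ pullback.fst ((EtCoh.bc g).obj V).hom f' ≫ pullback.fst V.hom g)
    ((Category.assoc _ _ _).trans (congrArg (iX'.left ≫ ·) (bc_map_fst a' ((EtCoh.bc f').map gk)))).symm)
  refine Eq.trans ?_ (congrArg (fun q => q ≫ pullback.fst ((EtCoh.bc g).obj V).hom f' ≫ pullback.fst V.hom g)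
    ((congrArg (· ≫ ((EtCoh.bc f').map gk).left) (pullback.lift_fst _ _ _)).symm.trans (Category.assoc _ _ _)))
  refine Eq.trans ?_ (Eq.symm (((Category.assoc _ _ _).trans ((congrArg (_ ≫ ·) ((Category.assoc _ _ _).symm.trans
    ((congrArg (· ≫ pullback.fst V.hom g) (bc_map_fst f' gk)).trans (Category.assoc _ _ _)))).trans
      ((Category.assoc _ _ _).trans (congrArg (_ ≫ ·) ((Category.assoc _ _ _).symm.trans
        ((congrArg (· ≫ gk.left ≫ pullback.fst V.hom g) (pullback.lift_fst _ _ _)).trans (Category.assoc _ _ _)))))))))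
  refine (congrArg (· ≫ pullback.fst V.hom f) ((Category.assoc _ _ _).symm.trans
    (congrArg (· ≫ β) (Over.w θ.hom)))).trans ?_
  refine (Category.assoc _ _ _).trans (congrArg (_ ≫ ·) ?_)
  refine (Category.assoc _ _ _).trans ((congrArg (m ≫ ·) (pullback.lift_fst _ _ _)).trans ?_)
  exact (Category.assoc _ _ _).symm.trans ((hm₂ i k gk hgk).trans (Category.assoc _ _ _))

include hm₁ hm₂ in
theorem bijective_stalk_baseChange0Sh (hC : CPI m) [QuasiCompact f] [QuasiSeparated f] [QuasiCompact f']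
    [QuasiSeparated f'] (F : EtDesc.Sh X) :
    Function.Bijective (((Scheme.pointSmallEtale η).sheafFiber (A := Type (u + 1))).map
      (EtBC.baseChange0Sh f g f' g' w F)) := by
  let F' := (EtDesc.pullSh g').obj F
  let M := ((Scheme.pointSmallEtale η).sheafFiber (A := Type (u + 1))).map (EtBC.baseChange0Sh f g f' g' w F)
  have hI : Function.Bijective ((stalkPullShIso g η).inv.app ((EtDesc.pushSh f).obj F)) :=
    (isIso_iff_bijective _).1 inferInstance
  refine (Function.Bijective.of_comp_iff _ hI).1 ?_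
  have hC' := cmpXA_bijective f g f' g' η m hm₁ hC F
  -- the image of a germ
  have key : ∀ (i : Nbhd.NI (η ≫ g)) (k : Nbhd.NI η)
      (gk : (Nbhd.nb η).obj k ⟶ (EtCoh.bc g).obj ((Nbhd.nb (η ≫ g)).obj i))
      (_ : (Scheme.pointSmallEtale η).fiber.map gk (Nbhd.zb η k) = zbc g η i)
      (s : F.obj.obj (op ((TX f (η ≫ g)).obj i))),
      ∃ x, M ((stalkPullShIso g η).inv.app ((EtDesc.pushSh f).obj F) (germX f (η ≫ g) F i s)) =
          germX f' η F' k x ∧ phiX f' η F' k x = cmpXA f g f' g' η m hm₁ F (phiX f (η ≫ g) F i s) := by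
    intro i k gk hgk s
    refine ⟨_, ?_, phiX_baseChange0Sh f g f' g' w η m hm₁ hm₂ F i k gk hgk s⟩
    refine (congrArg (fun x => M x) (stalkPullShIso_inv_germ g η ((EtDesc.pushSh f).obj F) _ _ s)).trans ?_
    refine (germ_naturality η (EtBC.baseChange0Sh f g f' g' w F) _ (zbc g η i) _).trans ?_
    refine (congrArg (fun x => germ η ((EtDesc.pushSh f').obj F') _ (zbc g η i) x)
      (H11PBCSet.baseChange0Sh_unit f g f' g' w F _ s)).trans ?_
    exact (H11PBCSet.germ_index_eq f' η F' (zbc g η i) k gk hgk _).symm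
  refine ⟨fun p q hpq => ?_, fun p' => ?_⟩
  · obtain ⟨i, s, rfl⟩ := germX_surjective f (η ≫ g) F p
    obtain ⟨j, t, rfl⟩ := germX_surjective f (η ≫ g) F q
    obtain ⟨l, a, b, -⟩ := IsCofilteredOrEmpty.cone_objs i j
    rw [← germX_map f (η ≫ g) F a s, ← germX_map f (η ≫ g) F b t] at hpq ⊢
    obtain ⟨k, ⟨gk, hgk⟩⟩ := Nbhd.exists_index η ⟨_, zbc g η l⟩
    obtain ⟨x, hx, hx'⟩ := key l k gk hgk (F.obj.map ((TX f (η ≫ g)).map a).op s)
    obtain ⟨y, hy, hy'⟩ := key l k gk hgk (F.obj.map ((TX f (η ≫ g)).map b).op t)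
    refine (germX_eq_iff f (η ≫ g) F l _ _).2 (hC'.1 ?_)
    rw [← hx', ← hy']
    exact (germX_eq_iff f' η F' k x y).1 (hx.symm.trans (hpq.trans hy))
  · obtain ⟨l, y, rfl⟩ := germX_surjective f' η F' p'
    obtain ⟨h1, h2, h3⟩ := instances_TX' f (η ≫ g)
    haveI := h1; haveI := h2; haveI := h3
    obtain ⟨σ, hσ⟩ := hC'.2 (phiX f' η F' l y)
    obtain ⟨i, s, rfl⟩ := (phi_bijective (coneX f (η ≫ g)) _ (coneX_hom f (η ≫ g)) F
      (isLimitConeX f (η ≫ g))).1 σ
    obtain ⟨k₀, ⟨g₀, hg₀⟩⟩ := Nbhd.exists_index η ⟨_, zbc g η i⟩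
    dsimp at g₀ hg₀
    obtain ⟨k, a, b, -⟩ := IsCofilteredOrEmpty.cone_objs l k₀
    obtain ⟨x, hx, hx'⟩ := key i k ((Nbhd.nb η).map b ≫ g₀)
      ((Functor.map_comp_apply _ _ _ _).trans ((congrArg _ (Nbhd.zb_map η b)).trans hg₀)) s
    refine ⟨germX f (η ≫ g) F i s, hx.trans ?_⟩
    rw [← germX_map f' η F' a y]
    refine (germX_eq_iff f' η F' k _ _).2 ?_
    rw [hx', phiX, phiX, phi_map (coneX f' η) _ (coneX_hom f' η) F' a y]
    exact hσ

end Compare

end Groth.Agent.H11Rig.StalkPush
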